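import Cfsg.Agent.Lib.StrongSec.PairSolv
import Cfsg.Agent.Lib.ZStar.Section
import Cfsg.Agent.Lib.ZStar.Reduce
import Cfsg.Agent.Lib.ZStar.EC.Rep
import Cfsg.Agent.Lib.BlockH.Basic
import Cfsg.Agent.Lib.Coh2.ClassCongr
import Cfsg.Agent.Lib.Char.RealOdd

/-!
# Elementary abelian Sylow subgroups with one class of elements of order `p`

The principal block computation: a simple group whose Sylow `p`-subgroup is elementary abelian with
one class of nonidentity elements, whose centralizers of elements of order `p` are `p`-nilpotent and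
such that pairs of elements of order `p` generate `p`-solvable subgroups, has `p = 2`.
-/

set_option autoImplicit false
set_option linter.unusedSectionVars false
set_option linter.style.haveILetI false

namespace Cfsg.Agent.Lib.StrongSec.EABlock

open Cfsg Subgroup
open Cfsg.Agent.Lib.Blocks.Central Cfsg.Agent.Lib.Blocks.Weak Cfsg.Agent.Lib.Blocks.Third
open Cfsg.Agent.Lib.Blocks.General
open Cfsg.Agent.Lib.ZStar.Section
open Cfsg.Agent.Lib.Core.Basic
open Cfsg.Agent.Lib.StrongSec.PairSolv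
open scoped ComplexConjugate

universe u

/-- The order of a conjugate. -/
theorem ord_conj {G : Type*} [Group G] (t g : G) : orderOf (t * g * t⁻¹) = orderOf g := by
  have := orderOf_injective (MulAut.conj t).toMonoidHom (MulEquiv.injective _) g
  simpa [MulAut.conj_apply] using this

/-- The numerical core of the argument. -/
theorem sum_bound {ι : Type*} [DecidableEq ι] (B : Finset ι) (a d : ι → ℝ) {o m : ι} {n : ℝ}
    (ho : o ∈ B) (hm : m ∈ B) (hmo : m ≠ o) (hao : a o = 1) (hdo : d o = 1) (ham : a m ≤ -1)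
    (hd : ∀ χ ∈ B, 0 < d χ) (hn : ∑ χ ∈ B, a χ ^ 2 = n)
    (had : ∀ χ ∈ B, χ ≠ o → a χ + n ≤ d χ) :
    ∑ χ ∈ B, a χ ^ 3 / d χ ≤ (n + 1) / 3 := by
  have hle : ∀ χ ∈ B, χ ≠ o → a χ ^ 2 + 1 ≤ n := by
    intro χ hχ hne
    rw [← hn]
    have hsub : ({χ, o} : Finset ι) ⊆ B := by
      intro ψ hψ
      simp only [Finset.mem_insert, Finset.mem_singleton] at hψ
      rcases hψ with rfl | rfl
      · exact hχ
      · exact ho
    calc a χ ^ 2 + 1 = ∑ ψ ∈ ({χ, o} : Finset ι), a ψ ^ 2 := by
          rw [Finset.sum_pair hne, hao]; ring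
      _ ≤ _ := Finset.sum_le_sum_of_subset_of_nonneg hsub (fun _ _ _ => sq_nonneg _)
  let c : ι → ℝ := fun χ => (if χ = o then 2 / 3 else 0) + (if χ = m then -1 / 3 else 0)
  have hterm : ∀ χ ∈ B, a χ ^ 3 / d χ ≤ a χ ^ 2 / 3 + c χ := by
    intro χ hχ
    have hdχ := hd χ hχ
    by_cases h1 : χ = o
    · subst h1
      simp only [c, if_true, if_neg hmo.symm, hao, hdo]
      norm_num
    by_cases h2 : χ = m
    · subst h2
      simp only [c, if_neg h1, if_true, zero_add]
      have h3 : a χ ^ 3 / d χ ≤ 0 :=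
        div_nonpos_of_nonpos_of_nonneg (by nlinarith [sq_nonneg (a χ)]) hdχ.le
      nlinarith
    simp only [c, if_neg h1, if_neg h2, add_zero]
    by_cases h3 : 0 < a χ
    · have h4 := had χ hχ h1
      have h5 := hle χ hχ h1
      have h6 : 3 * a χ ≤ d χ := by nlinarith [sq_nonneg (a χ - 1)]
      rw [div_le_div_iff₀ hdχ (by norm_num)]
      nlinarith [mul_nonneg (sq_nonneg (a χ)) (sub_nonneg.2 h6)]
    · have h3' : a χ ≤ 0 := not_lt.1 h3
      have h4 : a χ ^ 3 / d χ ≤ 0 :=
        div_nonpos_of_nonpos_of_nonneg (by nlinarith [sq_nonneg (a χ)]) hdχ.le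
      have h5 : 0 ≤ a χ ^ 2 / 3 := by positivity
      linarith
  have hc : ∑ χ ∈ B, c χ = 1 / 3 := by
    simp only [c]
    rw [Finset.sum_add_distrib, Finset.sum_ite_eq', Finset.sum_ite_eq', if_pos ho, if_pos hm]
    norm_num
  calc _ ≤ ∑ χ ∈ B, (a χ ^ 2 / 3 + c χ) := Finset.sum_le_sum hterm
    _ = (n + 1) / 3 := by
      rw [Finset.sum_add_distrib, ← Finset.sum_div, hn, hc]
      ring

section Loc

variable {H : Type*} [Group H] [Finite H] {p : ℕ} [Fact p.Prime]

/-- A group with a normal `p`-complement has `H / O_{p'}(H)` a `p`-group. -/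
theorem isPGroup_quot_of_complement (h : HasNormalPComplement p H) :
    IsPGroup p (H ⧸ pPrimeCore p H) := by
  classical
  have hpp : p.Prime := Fact.out
  obtain ⟨T, N, hN, hc⟩ := h
  have hcop : (Nat.card N).Coprime p := by
    rw [← hc.index_eq_card]
    exact ((Nat.Prime.coprime_iff_not_dvd hpp).2 T.not_dvd_index).symm
  have hle : N ≤ pPrimeCore p H := le_pPrimeCore hN hcop
  intro q
  obtain ⟨g, rfl⟩ := QuotientGroup.mk_surjective q
  obtain ⟨⟨n, t⟩, e⟩ := hc.2 g
  obtain ⟨k, hk⟩ := T.isPGroup' t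
  refine ⟨k, ?_⟩
  have e' : (n : H) * (t : H) = g := e
  rw [← e', QuotientGroup.mk_mul, (QuotientGroup.eq_one_iff (n : H)).2 (hle n.2), one_mul,
    ← QuotientGroup.mk_pow]
  have h1 : (t : H) ^ p ^ k = 1 := by
    have := congrArg Subtype.val hk
    simpa using this
  rw [h1, QuotientGroup.mk_one]

end Loc

section Card

variable {G : Type*} [Group G] [Finite G] {p : ℕ} [Fact p.Prime]

/-- The order of the centralizer. -/
theorem card_centralizer_eq (P : Sylow p G) {x : G}
    (hPC : (P : Subgroup G) ≤ centralizer ({x} : Set G))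
    (hq : IsPGroup p (↥(centralizer ({x} : Set G)) ⧸ pPrimeCore p ↥(centralizer ({x} : Set G)))) :
    Nat.card (centralizer ({x} : Set G)) =
      Nat.card (pPrimeCore p ↥(centralizer ({x} : Set G))) * Nat.card P := by
  classical
  have hpp : p.Prime := Fact.out
  set C := centralizer ({x} : Set G) with hC
  set V := pPrimeCore p C with hV
  obtain ⟨k, hk⟩ := IsPGroup.iff_card.1 hq
  have e : Nat.card C = Nat.card V * p ^ k := by
    rw [← hk, V.card_eq_card_quotient_mul_card_subgroup, mul_comm]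
  have h1 : p ^ k ∣ Nat.card P := by
    apply Sylow.pow_dvd_card_of_pow_dvd_card P
    exact (Dvd.intro_left _ e.symm).trans (Subgroup.card_subgroup_dvd_card C)
  have h2 : Nat.card P ∣ p ^ k := by
    have h3 : Nat.card P ∣ Nat.card C := Subgroup.card_dvd_of_le hPC
    rw [e] at h3
    obtain ⟨m, hm⟩ := IsPGroup.iff_card.1 P.isPGroup'
    have hcop : Nat.Coprime (Nat.card P) (Nat.card V) := by
      rw [hm]
      exact Nat.Coprime.pow_left _ (pPrimeCore_coprime (p := p) (G := C)).symm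
    exact hcop.dvd_of_dvd_mul_left h3
  rw [e, Nat.dvd_antisymm h1 h2]

end Card

section Count

variable {G : Type*} [Group G] [Fintype G] {p : ℕ} [Fact p.Prime]

open Classical in
/-- At least half of the conjugates multiply with `x⁻¹` to a `p`-singular element. -/
theorem card_le_two_mul_singular (hp2 : p ≠ 2) {x h : G} (hx : orderOf x = p)
    (hh : h * x * h⁻¹ = x⁻¹)
    (hc : ∀ y : G, orderOf y = p → IsPSolvable p ↥(closure ({x, y} : Set G)))
    (hab : ∀ T : Subgroup G, IsPGroup p T → ∀ a ∈ T, ∀ b ∈ T, a * b = b * a) :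
    Fintype.card G ≤
      2 * (Finset.univ.filter fun g : G => p ∣ orderOf (x⁻¹ * (g * x * g⁻¹))).card := by
  set S := Finset.univ.filter fun g : G => p ∣ orderOf (x⁻¹ * (g * x * g⁻¹)) with hS
  set R := Finset.univ.filter fun g : G => ¬ p ∣ orderOf (x⁻¹ * (g * x * g⁻¹)) with hR
  have hsum : S.card + R.card = Fintype.card G := by
    have := Finset.card_filter_add_card_filter_not (s := (Finset.univ : Finset G))
      (fun g : G => p ∣ orderOf (x⁻¹ * (g * x * g⁻¹)))
    rw [Finset.card_univ] at this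
    exact this
  have hle : R.card ≤ S.card := by
    apply Finset.card_le_card_of_injOn (fun g => h * g)
    · intro g hg
      have hg' : ¬ p ∣ orderOf (x⁻¹ * (g * x * g⁻¹)) := by
        simpa [hR] using hg
      simp only [hS, Finset.coe_filter, Finset.mem_univ, true_and, Set.mem_ofPred_eq]
      by_contra hcon
      set y := (h * g) * x * (h * g)⁻¹ with hy
      have hyo : orderOf y = p := by
        rw [← hx, hy]
        exact ord_conj _ _
      have hxh : x * h = h * x⁻¹ := by
        have h1 : h * x⁻¹ * h⁻¹ = x := by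
          have : h * x⁻¹ * h⁻¹ = (h * x * h⁻¹)⁻¹ := by group
          rw [this, hh, inv_inv]
        calc x * h = (h * x⁻¹ * h⁻¹) * h := by rw [h1]
          _ = h * x⁻¹ := by group
      have e : x * y = h * (x⁻¹ * (g * x * g⁻¹)) * h⁻¹ := by
        rw [hy]
        calc x * (h * g * x * (h * g)⁻¹) = (x * h) * (g * x * g⁻¹) * h⁻¹ := by group
          _ = h * (x⁻¹ * (g * x * g⁻¹)) * h⁻¹ := by rw [hxh]; group
      have h2 : ¬ p ∣ orderOf (x * y) := by
        rw [e, ord_conj]
        exact hg'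
      have hyp : y ^ p = 1 := by
        rw [← hyo]
        exact pow_orderOf_eq_one y
      exact not_both_regular hp2 hx hyp (hc y hyo) hab hcon h2
    · intro a _ b _ e
      exact mul_left_cancel e
  omega

end Count

section Main

variable {G : Type u} [Group G] [Fintype G] [Fintype (IrrCharacter G)] {p : ℕ} [Fact p.Prime]
  {M : Ideal AlgInt}

/-- The value of a character of the principal block on `p`-singular elements. -/
theorem value_of_singular (hM : IsPModular p M) {x : G}
    (hx : ∃ k : ℕ, orderOf x = p ^ k)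
    (hreg : ∀ c : centralizer ({x} : Set G), ¬ p ∣ orderOf c →
      c ∈ pPrimeCore p (centralizer ({x} : Set G)))
    (hfus : ∀ u : G, (∃ k : ℕ, orderOf u = p ^ k) → u ≠ 1 → ∃ t : G, t * u * t⁻¹ = x)
    {g : G} (hg : p ∣ orderOf g) {χ : IrrCharacter G} (hχ : χ ∈ principalBlock M G) :
    (χ : G → ℂ) g = (χ : G → ℂ) x := by
  obtain ⟨u, y, e, hcomm, hu, hy⟩ := Cfsg.Agent.Lib.Blocks.PPart.exists_isPPart (p := p) g
  have hu1 : u ≠ 1 := by
    rintro rfl
    apply hy
    rw [one_mul] at e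
    rw [e]
    exact hg
  obtain ⟨t, ht⟩ := hfus u hu hu1
  have hvC : t * y * t⁻¹ ∈ centralizer ({x} : Set G) := by
    rw [mem_centralizer_singleton_iff, ← ht]
    have e1 : u * y = y * u := hcomm.eq
    calc t * y * t⁻¹ * (t * u * t⁻¹) = t * (y * u) * t⁻¹ := by group
      _ = t * (u * y) * t⁻¹ := by rw [e1]
      _ = t * u * t⁻¹ * (t * y * t⁻¹) := by group
  let v : centralizer ({x} : Set G) := ⟨t * y * t⁻¹, hvC⟩
  have hv : v ∈ pPrimeCore p (centralizer ({x} : Set G)) := by
    apply hreg v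
    rw [← Subgroup.orderOf_coe]
    change ¬ p ∣ orderOf (t * y * t⁻¹)
    rw [ord_conj]
    exact hy
  haveI := hM.2.1.isPrime
  have h := zstar hM hx hv hχ
  rw [← h]
  have e2 : x * (v : G) = t * g * t⁻¹ := by
    change x * (t * y * t⁻¹) = t * g * t⁻¹
    rw [← ht, ← e]
    group
  rw [e2, Cfsg.Agent.Lib.Char.Basic.isClassFunction_of_isIrrCharacter χ.2 g t]

open Classical in
/-- The sum of the section function over the products. -/
theorem sum_secSum_eq (M : Ideal AlgInt) (x : G)
    (hinv : ∀ χ : IrrCharacter G, (χ : G → ℂ) x⁻¹ = (χ : G → ℂ) x)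
    (hreal : ∀ χ : IrrCharacter G, conj ((χ : G → ℂ) x) = (χ : G → ℂ) x) :
    ∑ g : G, secSum M x (x⁻¹ * (g * x * g⁻¹)) =
      (Nat.card G : ℂ) * ∑ χ : IrrCharacter G,
        if χ ∈ principalBlock M G then ((χ : G → ℂ) x) ^ 3 / (χ : G → ℂ) 1 else 0 := by
  unfold secSum
  rw [Finset.sum_comm, Finset.mul_sum]
  refine Finset.sum_congr rfl fun χ _ => ?_
  by_cases hχ : χ ∈ principalBlock M G
  · simp only [if_pos hχ]
    rw [← Finset.sum_mul, sum_conj_mul, hinv, hreal]
    ring
  · simp only [if_neg hχ, Finset.sum_const_zero, mul_zero]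

/-- The characters are integer valued on `x`, with the congruence modulo `|P|`. -/
theorem exists_int_data {P : Subgroup G} [Fintype P] {x : G} (hxP : x ∈ P) (hx1 : x ≠ 1)
    (hconj : ∀ a ∈ P, a ≠ 1 → ∃ g : G, g * a * g⁻¹ = x) (hn : 2 ≤ Nat.card P)
    (χ : IrrCharacter G) :
    ∃ (A : ℤ) (D m : ℕ), 0 < D ∧ (χ : G → ℂ) x = A ∧ (χ : G → ℂ) 1 = D ∧
      (D : ℤ) + ((Nat.card P : ℤ) - 1) * A = (Nat.card P : ℤ) * m := by
  classical
  obtain ⟨D, hDpos, hD⟩ := Cfsg.Agent.Lib.Char.Complete.exists_pos_deg_of_isIrr χ.2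
  obtain ⟨m, hm⟩ := Cfsg.Agent.Lib.ZStar.EC.exists_sum_eq χ P
  have hval : ∀ a : P, a ≠ 1 → (χ : G → ℂ) a = (χ : G → ℂ) x := by
    intro a ha
    obtain ⟨g, hg⟩ := hconj a a.2 (fun h => ha (Subtype.ext h))
    rw [← hg, Cfsg.Agent.Lib.Char.Basic.isClassFunction_of_isIrrCharacter χ.2]
  have hsum : ∑ a : P, (χ : G → ℂ) a = (χ : G → ℂ) 1 + ((Nat.card P : ℂ) - 1) * (χ : G → ℂ) x := by
    rw [← Finset.add_sum_erase Finset.univ _ (Finset.mem_univ (1 : P))]
    congr 1
    rw [Finset.sum_congr rfl (fun a ha => hval a (Finset.ne_of_mem_erase ha)), Finset.sum_const,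
      Finset.card_erase_of_mem (Finset.mem_univ _), Finset.card_univ, ← Nat.card_eq_fintype_card,
      nsmul_eq_mul, Nat.cast_sub (by omega)]
    simp
  rw [hsum, hD] at hm
  have hne : ((Nat.card P : ℤ) - 1) ≠ 0 := by
    have : (2 : ℤ) ≤ Nat.card P := by exact_mod_cast hn
    omega
  obtain ⟨A, hA⟩ := Cfsg.Agent.Lib.Coh2.ClassCongr.exists_int_of_isIntegral_of_mul
    (Cfsg.Agent.Lib.Char.RealOdd.isIntegral_irr χ.2 x) hne
    (b := (Nat.card P : ℤ) * m - D) (by push_cast; linear_combination hm)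
  refine ⟨A, D, m, hDpos, hA, hD, ?_⟩
  rw [hA] at hm
  exact_mod_cast hm

end Main

section Final

/-- **An elementary abelian Sylow subgroup with one class of elements**. -/
theorem s1951 {G : Type u} [Group G] [Finite G] [IsSimpleGroup G] {p : ℕ} [Fact p.Prime]
    (P : Sylow p G) (hP1 : (P : Subgroup G) ≠ ⊥) (hPe : IsElementaryAbelian p (P : Subgroup G))
    (hconj : ∀ x ∈ (P : Subgroup G), ∀ y ∈ (P : Subgroup G), x ≠ 1 → y ≠ 1 →
      ∃ g : G, g * x * g⁻¹ = y)
    (hb : ∀ x ∈ (P : Subgroup G), orderOf x = p →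
      HasNormalPComplement p ↥(centralizer ({x} : Set G)))
    (hc : ∀ x y : G, orderOf x = p → orderOf y = p →
      IsPSolvable p ↥(closure ({x, y} : Set G))) :
    p = 2 := by
  classical
  by_contra hp2
  have hpp : p.Prime := Fact.out
  letI : Fintype G := Fintype.ofFinite G
  haveI := Cfsg.Agent.Lib.Char.Ortho.finite_irrCharacter (G := G)
  letI : Fintype (IrrCharacter G) := Fintype.ofFinite _
  obtain ⟨M, hM⟩ := Cfsg.Agent.Lib.BlockH.Basic.exists_isPModular hpp
  haveI := hM.2.1.isPrime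
  letI : Fintype (P : Subgroup G) := Fintype.ofFinite _
  obtain ⟨x, hxP, hx1⟩ := (bot_or_exists_ne_one (P : Subgroup G)).resolve_left hP1
  have hxp : x ^ p = 1 := hPe.2 x hxP
  have hxo : orderOf x = p := orderOf_eq_prime hxp hx1
  have hnp : p ∣ Nat.card (P : Subgroup G) := by
    have h0 := Subgroup.orderOf_dvd_natCard (P : Subgroup G) hxP
    rwa [hxo] at h0
  have hn3 : 3 ≤ Nat.card (P : Subgroup G) := by
    have h1 : p ≤ Nat.card (P : Subgroup G) := Nat.le_of_dvd Nat.card_pos hnp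
    have h2 := hpp.two_le
    omega
  obtain ⟨n, hn⟩ : ∃ n : ℕ, n = Nat.card (P : Subgroup G) := ⟨_, rfl⟩
  have hcomm : ∀ a ∈ (P : Subgroup G), ∀ b ∈ (P : Subgroup G), a * b = b * a := by
    intro a ha b hb
    haveI := hPe.1
    have := mul_comm' (⟨a, ha⟩ : (P : Subgroup G)) ⟨b, hb⟩
    exact congrArg Subtype.val this
  have hconjP : ∀ (S : Sylow p G), ∃ c : G, ∀ a ∈ (S : Subgroup G), c * a * c⁻¹ ∈ (P : Subgroup G) := by
    intro S
    obtain ⟨c, hc'⟩ := MulAction.exists_smul_eq G S P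
    refine ⟨c, fun a ha => ?_⟩
    rw [← hc', Sylow.smul_def]
    exact Subgroup.smul_mem_pointwise_smul a (MulAut.conj c) _ ha
  have hab : ∀ T : Subgroup G, IsPGroup p T → ∀ a ∈ T, ∀ b ∈ T, a * b = b * a := by
    intro T hT a ha b hb
    obtain ⟨S, hS⟩ := hT.exists_le_sylow
    obtain ⟨c, hc'⟩ := hconjP S
    have h1 := hcomm _ (hc' a (hS ha)) _ (hc' b (hS hb))
    have h2 : c * (a * b) * c⁻¹ = c * (b * a) * c⁻¹ := by
      calc c * (a * b) * c⁻¹ = (c * a * c⁻¹) * (c * b * c⁻¹) := by group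
        _ = (c * b * c⁻¹) * (c * a * c⁻¹) := h1
        _ = c * (b * a) * c⁻¹ := by group
    exact mul_left_cancel (mul_right_cancel h2)
  have hfus : ∀ u : G, (∃ k : ℕ, orderOf u = p ^ k) → u ≠ 1 → ∃ t : G, t * u * t⁻¹ = x := by
    intro u hu hu1
    have hz : IsPGroup p (zpowers u) := by
      obtain ⟨k, hk⟩ := hu
      rw [IsPGroup.iff_card, Nat.card_zpowers, hk]
      exact ⟨k, rfl⟩
    obtain ⟨S, hS⟩ := hz.exists_le_sylow
    obtain ⟨c, hc'⟩ := hconjP S
    have h1 := hc' u (hS (mem_zpowers u))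
    have h2 : c * u * c⁻¹ ≠ 1 := by
      intro h
      apply hu1
      have : u = c⁻¹ * (c * u * c⁻¹) * c := by group
      rw [this, h]
      group
    obtain ⟨g, hg⟩ := hconj _ h1 x hxP h2 hx1
    refine ⟨g * c, ?_⟩
    rw [← hg]
    group
  have hxk : ∃ k : ℕ, orderOf x = p ^ k := ⟨1, by simpa using hxo⟩
  have hq := isPGroup_quot_of_complement (hb x hxP hxo)
  have hreg : ∀ c : centralizer ({x} : Set G), ¬ p ∣ orderOf c →
      c ∈ pPrimeCore p (centralizer ({x} : Set G)) := fun c hc' => mem_core_of_regular hq hc'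
  have hPC : (P : Subgroup G) ≤ centralizer ({x} : Set G) := by
    intro a ha
    rw [mem_centralizer_singleton_iff]
    exact hcomm a ha x hxP
  have hcard := card_centralizer_eq P hPC hq
  have hnorm := section_norm hM hxk hreg
  have hsecxx : secSum M x x = n := by
    rw [hcard] at hnorm
    push_cast at hnorm
    have hne : (Nat.card (pPrimeCore p ↥(centralizer ({x} : Set G))) : ℂ) ≠ 0 :=
      Nat.cast_ne_zero.2 Nat.card_pos.ne'
    have := mul_left_cancel₀ hne hnorm
    rw [this, hn]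
  have hval : ∀ g : G, p ∣ orderOf g → ∀ χ : IrrCharacter G, χ ∈ principalBlock M G →
      (χ : G → ℂ) g = (χ : G → ℂ) x := fun g hg χ hχ =>
    value_of_singular hM hxk hreg hfus hg hχ
  have hsing : ∀ g : G, p ∣ orderOf g → secSum M x g = n := by
    intro g hg
    rw [← hsecxx]
    unfold secSum
    refine Finset.sum_congr rfl fun χ _ => ?_
    by_cases hχ : χ ∈ principalBlock M G
    · simp only [if_pos hχ]
      rw [hval g hg χ hχ]
    · simp only [if_neg hχ]
  have hregz : ∀ g : G, ¬ p ∣ orderOf g → secSum M x g = 0 := by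
    intro g hg
    exact secSum_eq_zero hM hxk ⟨g, one_mul g, Commute.one_left g, ⟨0, by simp⟩, hg⟩
      (fun h => hx1 (isConj_one_right.1 h))
  obtain ⟨h, hh⟩ := hconj x hxP x⁻¹ (inv_mem hxP) hx1 (inv_ne_one.2 hx1)
  have hinv : ∀ χ : IrrCharacter G, (χ : G → ℂ) x⁻¹ = (χ : G → ℂ) x := by
    intro χ
    rw [← hh, Cfsg.Agent.Lib.Char.Basic.isClassFunction_of_isIrrCharacter χ.2]
  have hreal : ∀ χ : IrrCharacter G, conj ((χ : G → ℂ) x) = (χ : G → ℂ) x := by
    intro χ
    rw [← Cfsg.Agent.Lib.Char.Ortho.char_inv_eq_conj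
      (Cfsg.Agent.Lib.Char.Basic.isCharacter_of_isIrrCharacter χ.2), hinv]
  have hcount := card_le_two_mul_singular hp2 hxo hh (fun y hy => hc x y hxo hy) hab
  have hsum := sum_secSum_eq M x hinv hreal
  have hdata := exists_int_data (P := (P : Subgroup G)) hxP hx1
    (fun a ha ha1 => hconj a ha x hxP ha1 hx1) (by omega)
  have hK : normalClosure ({x} : Set G) = ⊤ := by
    refine (IsSimpleGroup.eq_bot_or_eq_top_of_normal _ normalClosure_normal).resolve_left ?_
    intro hbot
    apply hx1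
    have h1 : x ∈ normalClosure ({x} : Set G) := subset_normalClosure (by simp)
    rw [hbot] at h1
    exact mem_bot.1 h1
  -- real data
  let a : IrrCharacter G → ℝ := fun χ => ((χ : G → ℂ) x).re
  let d : IrrCharacter G → ℝ := fun χ => ((χ : G → ℂ) 1).re
  have hax : ∀ χ : IrrCharacter G, (χ : G → ℂ) x = (a χ : ℂ) := by
    intro χ
    obtain ⟨A, D, m, -, hA, -, -⟩ := hdata χ
    simp only [a]
    rw [hA]
    simp
  have hdx : ∀ χ : IrrCharacter G, (χ : G → ℂ) 1 = (d χ : ℂ) := by
    intro χ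
    obtain ⟨A, D, m, -, -, hD, -⟩ := hdata χ
    simp only [d]
    rw [hD]
    simp
  let o : IrrCharacter G := oneI G
  let B : Finset (IrrCharacter G) := Finset.univ.filter (fun χ => χ ∈ principalBlock M G)
  have hoB : o ∈ B := by
    simp only [B, Finset.mem_filter, Finset.mem_univ, true_and]
    exact mem_blockOf_self (oneI G)
  have hao : a o = 1 := by simp [a, o]
  have hdo : d o = 1 := by simp [d, o]
  have hdpos : ∀ χ ∈ B, 0 < d χ := by
    intro χ _
    obtain ⟨A, D, m, hD0, -, hD, -⟩ := hdata χ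
    simp only [d]
    rw [hD]
    simpa using hD0
  have hcast : ∀ f : IrrCharacter G → ℝ, ((∑ χ ∈ B, f χ : ℝ) : ℂ) =
      ∑ χ : IrrCharacter G, if χ ∈ principalBlock M G then (f χ : ℂ) else 0 := by
    intro f
    push_cast
    simp only [B]
    rw [Finset.sum_filter]
  have hsq : ∑ χ ∈ B, a χ ^ 2 = n := by
    apply Complex.ofReal_injective
    rw [hcast]
    push_cast
    rw [← hsecxx]
    unfold secSum
    refine Finset.sum_congr rfl fun χ _ => ?_
    by_cases hχ : χ ∈ principalBlock M G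
    · simp only [if_pos hχ]
      rw [hreal, hax]
      ring
    · simp only [if_neg hχ]
  have hda : ∑ χ ∈ B, d χ * a χ = 0 := by
    apply Complex.ofReal_injective
    rw [hcast]
    have h0 := hregz 1 (by
      rw [orderOf_one]
      exact hpp.one_lt.ne' ∘ Nat.dvd_one.1)
    push_cast
    refine Eq.trans ?_ h0
    unfold secSum
    refine Finset.sum_congr rfl fun χ _ => ?_
    by_cases hχ : χ ∈ principalBlock M G
    · simp only [if_pos hχ]
      rw [hreal, hax, hdx]
    · simp only [if_neg hχ]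
  have hex : ∃ m ∈ B, a m < 0 := by
    by_contra hcon
    push Not at hcon
    have h1 : d o * a o ≤ ∑ χ ∈ B, d χ * a χ :=
      Finset.single_le_sum (f := fun χ => d χ * a χ)
        (fun χ hχ => mul_nonneg (hdpos χ hχ).le (hcon χ hχ)) hoB
    rw [hda, hao, hdo] at h1
    norm_num at h1
  obtain ⟨m, hmB, hm0⟩ := hex
  have hmo : m ≠ o := by
    rintro rfl
    rw [hao] at hm0
    norm_num at hm0
  have ham : a m ≤ -1 := by
    obtain ⟨A, D, k, -, hA, -, -⟩ := hdata m
    have e : a m = A := by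
      simp only [a]
      rw [hA]
      simp
    rw [e] at hm0 ⊢
    have h1 : A < 0 := by exact_mod_cast hm0
    have h2 : A ≤ -1 := by omega
    exact_mod_cast h2
  have had : ∀ χ ∈ B, χ ≠ o → a χ + n ≤ d χ := by
    intro χ _ hne
    obtain ⟨A, D, k, -, hA, hD, hrel⟩ := hdata χ
    have e1 : a χ = A := by
      simp only [a]
      rw [hA]
      simp
    have e2 : d χ = D := by
      simp only [d]
      rw [hD]
      simp
    rw [e1, e2]
    have h1 : |(A : ℝ)| ≤ D := by
      have h2 := Cfsg.Agent.Lib.Char.Degree.norm_le_charDegree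
        (Cfsg.Agent.Lib.Char.Basic.isCharacter_of_isIrrCharacter χ.2) x
      rw [Cfsg.Agent.Lib.Char.Degree.charDegree_eq_of_eq_natCast hD, hA] at h2
      simpa using h2
    have h3 : A ≤ D := by
      have := (abs_le.1 h1).2
      exact_mod_cast this
    have h4 : A ≠ D := by
      intro h5
      apply hne
      apply Cfsg.Agent.Lib.ZStar.Reduce.eq_oneI_of_value hK
      rw [hA, hD, h5]
      simp
    have h6 : (0 : ℤ) < (D : ℤ) - A := by omega
    have h7 : (Nat.card (P : Subgroup G) : ℤ) ∣ (D : ℤ) - A :=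
      ⟨(k : ℤ) - A, by linear_combination hrel⟩
    have h8 := Int.le_of_dvd h6 h7
    rw [← hn] at h8
    have h9 : (A : ℝ) + n ≤ D := by
      have : (A : ℤ) + n ≤ D := by omega
      exact_mod_cast this
    exact h9
  have hbound := sum_bound B a d hoB hmB hmo hao hdo ham hdpos hsq had
  -- the counting identity
  have hid : (n : ℝ) * ((Finset.univ.filter fun g : G => p ∣ orderOf (x⁻¹ * (g * x * g⁻¹))).card : ℝ)
      = (Nat.card G : ℝ) * ∑ χ ∈ B, a χ ^ 3 / d χ := by
    apply Complex.ofReal_injective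
    push_cast
    have h1 : ∑ g : G, secSum M x (x⁻¹ * (g * x * g⁻¹)) = (n : ℂ) *
        ((Finset.univ.filter fun g : G => p ∣ orderOf (x⁻¹ * (g * x * g⁻¹))).card : ℂ) := by
      have h2 : ∀ g : G, secSum M x (x⁻¹ * (g * x * g⁻¹)) =
          if p ∣ orderOf (x⁻¹ * (g * x * g⁻¹)) then (n : ℂ) else 0 := by
        intro g
        split_ifs with h3
        · exact hsing _ h3
        · exact hregz _ h3
      simp_rw [h2]
      rw [Finset.sum_ite, Finset.sum_const, Finset.sum_const_zero, add_zero, nsmul_eq_mul, mul_comm]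
    rw [← h1]
    have h3 := hsum
    convert h3 using 2
    simp only [B]
    rw [Finset.sum_filter]
    refine Finset.sum_congr rfl fun χ _ => ?_
    by_cases hχ : χ ∈ principalBlock M G
    · simp only [if_pos hχ]
      rw [hax, hdx]
    · simp only [if_neg hχ]
  -- conclusion
  have hcountR : (Nat.card G : ℝ) ≤ 2 *
      ((Finset.univ.filter fun g : G => p ∣ orderOf (x⁻¹ * (g * x * g⁻¹))).card : ℝ) := by
    rw [Nat.card_eq_fintype_card]
    exact_mod_cast hcount
  have hGpos : (0 : ℝ) < Nat.card G := by exact_mod_cast Nat.card_pos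
  have hn3R : (3 : ℝ) ≤ n := by
    rw [hn]
    exact_mod_cast hn3
  have hfin : (Nat.card G : ℝ) * n ≤ 2 * ((Nat.card G : ℝ) * ∑ χ ∈ B, a χ ^ 3 / d χ) := by
    rw [← hid]
    nlinarith
  have hfin2 : (n : ℝ) ≤ 2 * ∑ χ ∈ B, a χ ^ 3 / d χ := by
    by_contra hcon
    push Not at hcon
    nlinarith
  linarith

end Final

end Cfsg.Agent.Lib.StrongSec.EABlock
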