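import Cfsg.Agent.Lib.StrongSec.Thompson
import Cfsg.Agent.Lib.PLocal.QdSection
import Cfsg.Agent.Lib.PReduced.QdChar
import Cfsg.Agent.Lib.ZJ.QdSection

/-!
# `Qd(p)`: fusion is not controlled by functors; local `SL₂(p)`
-/

set_option autoImplicit false

namespace Cfsg.Agent.Lib.StrongSec.QdFusion

open Cfsg Cfsg.Agent.Lib.ConjFam.StrongCtl Cfsg.Agent.Lib.TransferCtl.Basic
  Cfsg.Agent.Lib.StrongSec.Basic Cfsg.Agent.Lib.StrongSec.Main Cfsg.Agent.Lib.StrongSec.KInf
  Cfsg.Agent.Lib.PReduced.Qd Cfsg.Agent.Lib.PReduced.QdChar Cfsg.Agent.Lib.PLocal.QdSection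
  Cfsg.Agent.Lib.Classical.SL2Sylow
open scoped MatrixGroups commutatorElement

universe u

variable {p : ℕ} [Fact p.Prime]

section Local

variable {G : Type*} [Group G] [Finite G]

/-- If `Qd(p)` is involved, then `SL₂(p)` is involved in the normalizer of a nontrivial `p`-subgroup. -/
theorem exists_local_sl2 (hi : Involves ↥(qd p) G) :
    ∃ P : Subgroup G, IsPGroup p P ∧ P ≠ ⊥ ∧
      Involves (Matrix.SpecialLinearGroup (Fin 2) (ZMod p)) ↥(Subgroup.normalizer (P : Set G)) := by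
  classical
  have hpp : p.Prime := Fact.out
  obtain ⟨K, θ, hθ⟩ := involves_exists_surj hi
  let θ' : ↥K →* QdG (ZMod p) := θ
  let φ : ↥K →* SL(2, ZMod p) := lin.comp θ'
  have hφ : Function.Surjective φ := lin_surjective.comp hθ
  let M : Subgroup ↥K := φ.ker
  have hMn : M.Normal := inferInstance
  obtain ⟨T⟩ : Nonempty (Sylow p M) := inferInstance
  let T₁ : Subgroup ↥K := (T : Subgroup M).map M.subtype
  have hfr : Subgroup.normalizer (T₁ : Set ↥K) ⊔ M = ⊤ := Sylow.normalizer_sup_eq_top T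
  have hT₁p : IsPGroup p T₁ := T.isPGroup'.map _
  -- `p` divides the order of `M`
  have hx1 : (mk (1 : SL(2, ZMod p)) ![1, 0] : QdG (ZMod p)) ≠ 1 := by
    intro h
    have h2 := congrArg (fun z : QdG (ZMod p) => tv z 0) h
    simp [tv_mk, tv_one] at h2
  have hxp : (mk (1 : SL(2, ZMod p)) ![1, 0] : QdG (ZMod p)) ^ p = 1 := by
    rw [pow_translation, CharP.cast_eq_zero, zero_smul, mk_one_zero]
  haveI : Fact p.Prime := ⟨hpp⟩
  have hord := orderOf_eq_prime hxp hx1
  obtain ⟨m, hm⟩ := hθ (mk (1 : SL(2, ZMod p)) ![1, 0])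
  have hmM : m ∈ M := by
    refine MonoidHom.mem_ker.2 ?_
    show lin (θ' m) = 1
    have : θ' m = mk (1 : SL(2, ZMod p)) ![1, 0] := hm
    rw [this, lin_mk]
  have hdvd : p ∣ Nat.card M := by
    have h1 : orderOf (θ' m) ∣ orderOf m := orderOf_map_dvd _ _
    have h2 : θ' m = mk (1 : SL(2, ZMod p)) ![1, 0] := hm
    rw [h2, hord] at h1
    exact h1.trans (Subgroup.orderOf_dvd_natCard M hmM)
  have hTdvd : p ∣ Nat.card T := T.dvd_card_of_dvd_card hdvd
  have hT₁ne : T₁ ≠ ⊥ := by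
    intro hb
    have hTb : (T : Subgroup M) = ⊥ :=
      (Subgroup.map_eq_bot_iff_of_injective _ M.subtype_injective).1 hb
    have : Nat.card (T : Subgroup M) = 1 := by rw [hTb]; simp
    have h2 : p ∣ 1 := by
      have h3 := hTdvd
      rw [show Nat.card T = Nat.card (T : Subgroup M) from rfl, this] at h3
      exact h3
    exact hpp.one_lt.ne' (Nat.dvd_one.1 h2)
  refine ⟨T₁.map K.subtype, hT₁p.map _, ?_, ?_⟩
  · intro hb
    exact hT₁ne ((Subgroup.map_eq_bot_iff_of_injective _ K.subtype_injective).1 hb)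
  · -- the normalizer
    let K₁ : Subgroup ↥K := Subgroup.normalizer (T₁ : Set ↥K)
    have hsurj : Function.Surjective (φ.comp K₁.subtype) := by
      intro A
      obtain ⟨k, hk⟩ := hφ A
      have hk' : k ∈ K₁ ⊔ M := by rw [hfr]; trivial
      obtain ⟨n, hn, m', hm', rfl⟩ := Subgroup.mem_sup_of_normal_right.1 hk'
      refine ⟨⟨n, hn⟩, ?_⟩
      show φ n = A
      rw [← hk, map_mul, MonoidHom.mem_ker.1 hm', mul_one]
    have h1 : Involves (SL(2, ZMod p)) ↥K₁ :=
      Cfsg.Agent.Lib.ZJ.QdSection.involves_of_surjective Cfsg.Agent.Lib.ZJ.QdSection.involves_self _ hsurj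
    have hmem : ∀ x : ↥K₁, ((x : ↥K) : G) ∈ Subgroup.normalizer ((T₁.map K.subtype : Subgroup G) : Set G) :=
      fun x => Subgroup.le_normalizer_map K.subtype ⟨x, x.2, rfl⟩
    let ψ : ↥K₁ →* ↥(Subgroup.normalizer ((T₁.map K.subtype : Subgroup G) : Set G)) :=
      (K.subtype.comp K₁.subtype).codRestrict _ hmem
    refine involves_of_injective h1 ψ ?_
    intro x y hxy
    have h2 := congrArg Subtype.val hxy
    exact Subtype.ext (Subtype.ext h2)

/-- S2004 -/
theorem stable_sections_of_local (hp : p ≠ 2) {G : Type u} [Group G] [Finite G]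
    (h : ∀ P : Subgroup G, IsPGroup p ↥P → P ≠ ⊥ →
      ¬ Involves (Matrix.SpecialLinearGroup (Fin 2) (ZMod p)) ↥(Subgroup.normalizer ((P : Subgroup G) : Set G))) :
    ∀ (K R : Subgroup G) [hR : (R.subgroupOf K).Normal], IsNormalizerPStable p (↥K ⧸ R.subgroupOf K) := by
  refine (not_involves_iff hp).1 ?_
  intro hi
  obtain ⟨P, hP, hne, hinv⟩ := exists_local_sl2 hi
  exact h P hP hne hinv

end Local

section Control

variable {X : Type u} [Group X] [Finite X]

/-- The configuration in a group isomorphic to `Qd(p)`. -/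
theorem exists_config (ι : X ≃* QdG (ZMod p)) :
    ∃ (T : Sylow p X) (v g : X) (B : Subgroup X), v ∈ (T : Subgroup X) ∧ g * v * g⁻¹ ∈ (T : Subgroup X) ∧
      (∀ x ∈ B, x * v * x⁻¹ ≠ g * v * g⁻¹) ∧
      Subgroup.normalizer ((T : Subgroup X) : Set X) ≤ B ∧
      (∀ W : ∀ (Q : Type u) [Group Q], Subgroup Q, IsCharPFunctor.{u} p W →
        Subgroup.normalizer ((inducedFunctor (G := X) W (T : Subgroup X) : Subgroup X) : Set X) ≤ B) ∧
      (∀ a ∈ (T : Subgroup X), ∀ b ∈ (T : Subgroup X), ∀ c ∈ (T : Subgroup X), ⁅a, b⁆ * c = c * ⁅a, b⁆) := by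
  classical
  have hpp : p.Prime := Fact.out
  let F := ZMod p
  let T₀ : Subgroup X := (S₀ F).comap ι.toMonoidHom
  have hmemT : ∀ x : X, x ∈ T₀ ↔ ι x ∈ S₀ F := fun x => Iff.rfl
  -- an equivalence
  let ε : ↥T₀ ≃* ↥(S₀ F) :=
    { toFun := fun t => ⟨ι t, t.2⟩
      invFun := fun s => ⟨ι.symm s, by
        rw [hmemT]
        simpa using s.2⟩
      left_inv := fun t => Subtype.ext (by simp)
      right_inv := fun s => Subtype.ext (by simp)
      map_mul' := fun x y => Subtype.ext (by simp) }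
  have hS₀p : IsPGroup p (S₀ F) := isPGroup_S₀
  have hT₀p : IsPGroup p T₀ := by
    intro t
    obtain ⟨k, hk⟩ := hS₀p (ε t)
    refine ⟨k, ?_⟩
    apply ε.injective
    rw [map_pow, hk, map_one]
  have hidx : ¬ p ∣ T₀.index := by
    have h1 : T₀.index = (S₀ F).index :=
      Subgroup.index_comap_of_surjective _ ι.surjective
    rw [h1]
    exact not_dvd_index_S₀
  let T : Sylow p X := hT₀p.toSylow hidx
  have hT : (T : Subgroup X) = T₀ := rfl
  have hS₀ne : S₀ F ≠ ⊥ := by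
    intro hb
    have h1 : ut (1 : F) 0 0 ∈ S₀ F := ut_mem _ _ _
    rw [hb, Subgroup.mem_bot] at h1
    have h2 := congrArg (fun z : QdG F => e z 0 1) h1
    simp [e01_ut, one_e] at h2
  have hnt : Nontrivial ↥T₀ := by
    have h3 : Nontrivial ↥(S₀ F) := (Subgroup.nontrivial_iff_ne_bot _).2 hS₀ne
    exact ε.toEquiv.nontrivial
  let B : Subgroup X := (Subgroup.normalizer ((S₀ F : Subgroup (QdG F)) : Set (QdG F))).comap ι.toMonoidHom
  have hmemB : ∀ x : X, x ∈ B ↔ e (ι x) 1 0 = 0 := fun x => mem_normalizer_S₀_iff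
  let w : SL(2, F) := ⟨!![0, 1; -1, 0], by simp [Matrix.det_fin_two]⟩
  have hconj1 : ∀ M : QdG F, M * mk 1 ![1, 0] * M⁻¹ = mk 1 ![e M 0 0, e M 1 0] := by
    intro M
    rw [Cfsg.Agent.Lib.PReduced.QdChar.conj_translation]
    congr 1
    funext i
    fin_cases i
    · simp [Matrix.mulVec, dotProduct, Fin.sum_univ_two, lin_apply, linFun]
    · simp [Matrix.mulVec, dotProduct, Fin.sum_univ_two, lin_apply, linFun]
  have hmk : ∀ y z : F, (mk 1 ![y, z] : QdG F) ∈ S₀ F := by
    intro y z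
    have h1 : (mk 1 ![y, z] : QdG F) = ut 0 y z := by
      rw [ut]
      congr 1
      apply Subtype.ext
      ext i j
      fin_cases i <;> fin_cases j <;> simp [upS]
    rw [h1]
    exact ut_mem _ _ _
  have hw : e (mk w 0) 0 0 = 0 ∧ e (mk w 0) 1 0 = -1 := ⟨rfl, rfl⟩
  refine ⟨T, ι.symm (mk 1 ![1, 0]), ι.symm (mk w 0), B, ?_, ?_, ?_, ?_, ?_, ?_⟩
  · rw [hT, hmemT]
    simpa using hmk 1 0
  · rw [hT, hmemT]
    have e1 : ι (ι.symm (mk w 0) * ι.symm (mk 1 ![1, 0]) * (ι.symm (mk w 0))⁻¹) =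
        mk w 0 * mk 1 ![1, 0] * (mk w 0)⁻¹ := by
      simp [map_mul]
    rw [e1, hconj1]
    exact hmk _ _
  · intro x hx he
    have e1 := congrArg ι he
    have e2 : ι (x * ι.symm (mk 1 ![1, 0]) * x⁻¹) = ι x * mk 1 ![1, 0] * (ι x)⁻¹ := by
      simp [map_mul]
    have e3 : ι (ι.symm (mk w 0) * ι.symm (mk 1 ![1, 0]) * (ι.symm (mk w 0))⁻¹) =
        mk w 0 * mk 1 ![1, 0] * (mk w 0)⁻¹ := by
      simp [map_mul]
    rw [e2, e3, hconj1, hconj1] at e1
    have e4 := congrArg (fun z : QdG F => tv z 1) e1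
    simp only [tv_mk] at e4
    have e5 : e (ι x) 1 0 = e (mk w 0) 1 0 := e4
    rw [(hmemB x).1 hx, hw.2] at e5
    have : (1 : F) = 0 := by
      have := e5.symm
      simpa using this
    exact one_ne_zero this
  · intro x hx
    have h1 : ι x ∈ Subgroup.normalizer ((T₀.map ι.toMonoidHom : Subgroup (QdG F)) : Set (QdG F)) :=
      Subgroup.le_normalizer_map ι.toMonoidHom ⟨x, hx, rfl⟩
    have h2 : T₀.map ι.toMonoidHom = S₀ F := by
      rw [Subgroup.map_comap_eq_self_of_surjective ι.surjective]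
    rw [h2] at h1
    exact h1
  · intro W hW x hx
    -- the characteristic subgroup
    let D : Subgroup ↥(S₀ F) := (W ↥T₀).map ε.toMonoidHom
    have hc : D.Characteristic := by
      rw [Subgroup.characteristic_iff_map_eq]
      intro φ
      have h1 := hW.2 ↥T₀ ↥T₀ hT₀p (ε.trans (φ.trans ε.symm))
      show ((W ↥T₀).map ε.toMonoidHom).map φ.toMonoidHom = (W ↥T₀).map ε.toMonoidHom
      conv_rhs => rw [← h1]
      rw [Subgroup.map_map, Subgroup.map_map]
      congr 1
      ext t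
      simp
    have hne : D ≠ ⊥ := by
      intro hb
      have h1 := (Subgroup.map_eq_bot_iff_of_injective _ ε.injective).1 hb
      exact hW.1 ↥T₀ hT₀p hnt h1
    have hmap : D.map (S₀ F).subtype = (inducedFunctor (G := X) W T₀).map ι.toMonoidHom := by
      ext z
      constructor
      · rintro ⟨_, ⟨t, ht, rfl⟩, rfl⟩
        exact ⟨(t : X), ⟨t, ht, rfl⟩, rfl⟩
      · rintro ⟨_, ⟨t, ht, rfl⟩, rfl⟩
        exact ⟨ε t, ⟨t, ht, rfl⟩, rfl⟩
    have h1 : ι x ∈ Subgroup.normalizer ((D.map (S₀ F).subtype : Subgroup (QdG F)) : Set (QdG F)) := by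
      rw [hmap]
      exact Subgroup.le_normalizer_map ι.toMonoidHom ⟨x, hx, rfl⟩
    exact (hmemB x).2 (core hc hne h1)
  · intro a ha b hb c hc
    rw [hT, hmemT] at ha hb hc
    apply ι.injective
    obtain ⟨a₁, a₂, a₃, ha'⟩ := exists_ut ha
    obtain ⟨b₁, b₂, b₃, hb'⟩ := exists_ut hb
    obtain ⟨c₁, c₂, c₃, hc'⟩ := exists_ut hc
    have hinv : ∀ r s t : F, (ut r s t)⁻¹ = ut (-r) (-s + r * t) (-t) := by
      intro r s t
      rw [inv_eq_iff_mul_eq_one, ut_mul]
      have : ut (r + -r) (s + (-s + r * t) + r * -t) (t + -t) = (1 : QdG F) := by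
        apply e_ext
        have h0 : ut (0 : F) 0 0 = 1 := by
          rw [ut]
          have : upS (0 : F) = 1 := by
            apply Subtype.ext
            ext i j
            fin_cases i <;> fin_cases j <;> simp [upS]
          rw [this]
          exact mk_one_zero
        have : ut (r + -r) (s + (-s + r * t) + r * -t) (t + -t) = ut (0 : F) 0 0 := by
          congr 1 <;> ring
        rw [this, h0]
        intro i j
        rfl
      exact this
    simp only [commutatorElement_def, map_mul, map_inv, ha', hb', hc', hinv, ut_mul]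
    congr 1 <;> ring

/-- Control by any set of functors fails in `Qd(p)`. -/
theorem not_sctl_of_equiv (ι : X ≃* QdG (ZMod p)) {𝓦 : Set (∀ (Q : Type u) [Group Q], Subgroup Q)}
    (h𝓦 : ∀ W ∈ 𝓦, IsCharPFunctor.{u} p W) : ¬ SCtl p 𝓦 X := by
  intro h
  obtain ⟨T, v, g, B, h1, h2, h3, -, h5, -⟩ := exists_config ι
  have hc := h T {v} g (Set.singleton_subset_iff.2 h1) (by
    rintro _ ⟨a, rfl, rfl⟩
    exact h2)
  obtain ⟨x, hx, hxe⟩ := exists_of_cc B (Q := Stp 𝓦 (T : Subgroup X))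
    (by
      rintro y ⟨W, hW, hy⟩
      exact h5 W (h𝓦 W hW) hy) hc
  exact h3 x hx (hxe v rfl)

/-- For a group of class at most two, the lower K-infinity subgroup is everything. -/
lemma inducedFunctor_kInfLower_eq (T : Subgroup X)
    (hcl : ∀ a ∈ T, ∀ b ∈ T, ∀ c ∈ T, ⁅a, b⁆ * c = c * ⁅a, b⁆) :
    inducedFunctor (G := X) kInfLower T = T := by
  have hcen : ∀ a b : ↥T, ⁅a, b⁆ ∈ Subgroup.centralizer (((⊤ : Subgroup ↥T) : Subgroup ↥T) : Set ↥T) := by
    intro a b
    refine Subgroup.mem_centralizer_iff.2 ?_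
    intro c _
    apply Subtype.ext
    exact (hcl a a.2 b b.2 c c.2).symm
  have hmem : (⊤ : Subgroup ↥T) ∈ kLowerStarFamily (kSeqOdd ↥T 0) := by
    refine ⟨?_, ?_, ?_⟩
    · show ⁅(⊤ : Subgroup ↥T), ⊤⁆ ≤ Subgroup.centralizer (((⊤ : Subgroup ↥T) : Subgroup ↥T) : Set ↥T)
      rw [Subgroup.commutator_le]
      intro a _ b _
      exact hcen a b
    · rw [Subgroup.normalizer_eq_top_iff.2 inferInstance]
      exact le_top
    · intro A _ _ _ _ _
      rw [Subgroup.commutator_le]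
      intro a _ b _
      exact Subgroup.mem_inf.2 ⟨Subgroup.mem_top _, hcen a b⟩
  have htop : kInfLower ↥T = ⊤ :=
    top_le_iff.1 ((Cfsg.Agent.Lib.KSeq.Basic.le_kSeqEven hmem).trans (Cfsg.Agent.Lib.KSeq.Basic.le_kInfLower 0))
  show (kInfLower ↥T).map T.subtype = T
  rw [htop, ← MonoidHom.range_eq_map, Subgroup.range_subtype]

/-- Control by the lower K-infinity subgroup fails in `Qd(p)`. -/
theorem not_controls_kInf_of_equiv (ι : X ≃* QdG (ZMod p)) :
    ¬ ∀ T : Sylow p X, ControlsStrongFusion p (inducedFunctor (G := X) kInfLower (T : Subgroup X)) := by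
  intro h
  obtain ⟨T, v, g, B, h1, h2, h3, h4, -, h6⟩ := exists_config ι
  obtain ⟨T', hle, hT'⟩ := h T
  have hK := inducedFunctor_kInfLower_eq (T : Subgroup X) h6
  rw [hK] at hle hT'
  have hTT' : (T' : Subgroup X) = T := T.is_maximal' T'.isPGroup' hle
  rw [hTT'] at hT'
  have hc := hT' {v} (Set.singleton_subset_iff.2 h1)
  obtain ⟨x, hx, hxe⟩ := hc.2 g (by
    rintro _ ⟨a, rfl, rfl⟩
    exact h2)
  exact h3 x (h4 hx) (hxe v rfl).symm

end Control

section Sections

variable {G : Type u} [Group G] [Finite G]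

/-- S1989 -/
theorem not_involves_iff_controls (hp : p ≠ 2) :
    ¬ Involves ↥(qd p) G ↔ ∀ (K R : Subgroup G) [hR : (R.subgroupOf K).Normal],
      ∀ T : Sylow p (↥K ⧸ R.subgroupOf K),
        ControlsStrongFusion p (inducedFunctor (G := (↥K ⧸ R.subgroupOf K)) kInfLower (T : Subgroup (↥K ⧸ R.subgroupOf K))) := by
  constructor
  · intro h K R hR T
    refine controls_kInfLower ?_ T
    refine (not_involves_iff hp).1 ?_
    intro hi
    exact h (involves_of_section hi)
  · rintro h ⟨K, R, hR, ⟨ι⟩⟩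
    exact not_controls_kInf_of_equiv ι (h K R)

end Sections

end Cfsg.Agent.Lib.StrongSec.QdFusion
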