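import Cfsg.Agent.Lib.StrongSec.NormalCtl
import Cfsg.Agent.Lib.StrongSec.QdFusion
import Cfsg.Agent.Lib.PLocal.ThompsonComplement

/-!
# The least centric radical subgroup controls strong fusion

For `p` odd, in a group none of whose `p`-local automizers has a section `SL₂(p)`.
-/

set_option autoImplicit false
set_option linter.unusedSectionVars false

namespace Cfsg.Agent.Lib.StrongSec.CentricRadical

open Cfsg Cfsg.Agent.Lib.PLocal.Alperin Cfsg.Agent.Lib.ConjFam.Basic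
  Cfsg.Agent.Lib.ConjFam.WellPlaced Cfsg.Agent.Lib.StrongSec.MinFail
  Cfsg.Agent.Lib.TransferCtl.Reduce Cfsg.Agent.Lib.StrongSec.NormalCtl
  Cfsg.Agent.Lib.TransferCtl.Basic Cfsg.Agent.Lib.ConjFam.StrongCtl
  Cfsg.Agent.Lib.StrongSec.Basic Cfsg.Agent.Lib.StrongSec.Main
  Cfsg.Agent.Lib.StrongSec.KInf

local notation "N(" T ")" => Subgroup.normalizer (SetLike.coe (T : Subgroup _))
local notation "C(" T ")" => Subgroup.centralizer (SetLike.coe (T : Subgroup _))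

universe u v

section SectionOfHom

variable {G : Type*} [Group G]

/-- A surjection from `H₁` trivial on `H₁ ∩ C` gives a section over `C ⊔ H₁`. -/
theorem exists_section_of_hom {C H₁ : Subgroup G} (hH₁ : H₁ ≤ N(C)) {S : Type*} [Group S]
    (φ : ↥H₁ →* S) (hφ : Function.Surjective φ) (hC : ∀ x : ↥H₁, (x : G) ∈ C → φ x = 1) :
    ∃ (K' : Subgroup G) (_ : (K'.subgroupOf (C ⊔ H₁)).Normal), C ≤ K' ∧ K' ≤ C ⊔ H₁ ∧
      Nonempty ((↥(C ⊔ H₁) ⧸ K'.subgroupOf (C ⊔ H₁)) ≃* S) := by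
  classical
  set H : Subgroup G := C ⊔ H₁ with hH
  have hdec : ∀ x : ↥H, ∃ c ∈ C, ∃ a : ↥H₁, (x : G) = c * a := by
    intro x
    obtain ⟨c, hc, a, ha, he⟩ := mem_sup_of_le_normalizer hH₁ x.2
    exact ⟨c, hc, ⟨a, ha⟩, he⟩
  choose c hc a ha using hdec
  have hwd : ∀ (x : ↥H) (c' : G) (a' : ↥H₁), c' ∈ C → (x : G) = c' * a' → φ a' = φ (a x) := by
    intro x c' a' hc' he
    have h1 : ((a' * (a x)⁻¹ : ↥H₁) : G) ∈ C := by
      have h2 : c' * (a' : G) = c x * (a x : G) := by rw [← he, ← ha x]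
      have h3 : ((a' * (a x)⁻¹ : ↥H₁) : G) = c'⁻¹ * c x := by
        push_cast
        rw [mul_inv_eq_iff_eq_mul, mul_assoc, ← h2, inv_mul_cancel_left]
      rw [h3]
      exact C.mul_mem (C.inv_mem hc') (hc x)
    have h2 := hC _ h1
    rw [map_mul, map_inv, mul_inv_eq_one] at h2
    exact h2
  let Φ : ↥H →* S := MonoidHom.mk' (fun x => φ (a x)) (by
    intro x y
    have h1 : ((x * y : ↥H) : G) = (c x * ((a x : G) * c y * (a x : G)⁻¹)) * ((a x * a y : ↥H₁) : G) := by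
      push_cast
      rw [ha x, ha y]
      group
    rw [← map_mul]
    symm
    refine (hwd (x * y) _ (a x * a y) ?_ h1)
    exact C.mul_mem (hc x) ((Subgroup.mem_normalizer_iff.1 (hH₁ (a x).2) _).1 (hc y)))
  have hΦ : ∀ x, Φ x = φ (a x) := fun x => rfl
  have hΦsurj : Function.Surjective Φ := by
    intro s
    obtain ⟨t, rfl⟩ := hφ s
    have ht : (t : G) ∈ H := (le_sup_right : H₁ ≤ H) t.2
    refine ⟨⟨t, ht⟩, ?_⟩
    rw [hΦ]
    exact (hwd ⟨t, ht⟩ 1 t C.one_mem (by simp)).symm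
  have e : (Φ.ker.map H.subtype).subgroupOf H = Φ.ker :=
    Subgroup.comap_map_eq_self_of_injective H.subtype_injective _
  have hn : ((Φ.ker.map H.subtype).subgroupOf H).Normal := by
    rw [e]
    infer_instance
  refine ⟨Φ.ker.map H.subtype, hn, ?_, Subgroup.map_subtype_le _, ?_⟩
  · intro z hz
    have hzH : z ∈ H := (le_sup_left : C ≤ H) hz
    refine ⟨⟨z, hzH⟩, MonoidHom.mem_ker.2 ?_, rfl⟩
    rw [hΦ]
    exact (hwd ⟨z, hzH⟩ z 1 hz (by simp)).symm.trans (map_one φ)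
  · exact ⟨(QuotientGroup.quotientMulEquivOfEq e).trans
      (QuotientGroup.quotientKerEquivOfSurjective Φ hΦsurj)⟩

end SectionOfHom

section NotInvolves

open Cfsg.Agent.Lib.PReduced.Qd Cfsg.Agent.Lib.PLocal.QdSection
open scoped MatrixGroups

variable {G : Type*} [Group G] [Finite G] {p : ℕ} [Fact p.Prime]

/-- The hypothesis on local automizers excludes `Qd(p)` as a section. -/
theorem not_involves_of_free
    (hfree : ∀ Q : Subgroup G, IsPGroup p ↥Q → ¬ ∃ (H K : Subgroup G) (_ : (K.subgroupOf H).Normal),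
      C(Q) ≤ K ∧ K ≤ H ∧ H ≤ N(Q) ∧
      Nonempty ((↥H ⧸ K.subgroupOf H) ≃* Matrix.SpecialLinearGroup (Fin 2) (ZMod p))) :
    ¬ Involves ↥(qd p) G := by
  intro hi
  classical
  obtain ⟨K, θ, hθ⟩ := involves_exists_surj hi
  let θ' : ↥K →* QdG (ZMod p) := θ
  let φ : ↥K →* SL(2, ZMod p) := lin.comp θ'
  have hφ : Function.Surjective φ := lin_surjective.comp hθ
  let M : Subgroup ↥K := φ.ker
  have hMn : M.Normal := inferInstance
  obtain ⟨T⟩ : Nonempty (Sylow p M) := inferInstance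
  let T₁ : Subgroup ↥K := (T : Subgroup M).map M.subtype
  have hfr : Subgroup.normalizer (T₁ : Set ↥K) ⊔ M = ⊤ := Sylow.normalizer_sup_eq_top T
  have hT₁p : IsPGroup p T₁ := T.isPGroup'.map _
  have hT₁M : T₁ ≤ M := Subgroup.map_subtype_le _
  have hT₁i : ¬ p ∣ T₁.relIndex M := by
    have e : T₁.subgroupOf M = (T : Subgroup M) :=
      Subgroup.comap_map_eq_self_of_injective M.subtype_injective _
    rw [Subgroup.relIndex, e]
    exact T.not_dvd_index
  have hkerM : θ'.ker ≤ M := by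
    intro x hx
    show lin (θ' x) = 1
    rw [MonoidHom.mem_ker.1 hx, map_one]
  have hcov : ∀ s : Fin 2 → ZMod p, ∃ t ∈ T₁, θ' t = mk 1 s := by
    intro s
    obtain ⟨m, hm⟩ := hθ (mk 1 s)
    have hm' : θ' m = mk 1 s := hm
    have hmM : m ∈ M := by
      show lin (θ' m) = 1
      rw [hm', lin_mk]
    obtain ⟨t, ht, f, hf, he⟩ := exists_mul_of_pquot (p := p) hkerM
      (fun x _ => by
        have hn : (θ'.ker).Normal := inferInstance
        rw [Subgroup.normalizer_eq_top_iff.2 hn]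
        exact Subgroup.mem_top x) hT₁M hT₁p hT₁i (by
        intro x hx
        have hx' : θ' x ∈ (lin : QdG (ZMod p) →* SL(2, ZMod p)).ker := hx
        obtain ⟨k, hk⟩ := (isPGroup_ker_lin (F := ZMod p) (p := p)) ⟨θ' x, hx'⟩
        refine ⟨k, ?_⟩
        have hk' : (θ' x) ^ p ^ k = 1 := by
          have := congrArg Subtype.val hk
          simpa using this
        rw [MonoidHom.mem_ker, map_pow, hk']) m hmM
    refine ⟨t, ht, ?_⟩
    rw [← hm', he, map_mul, MonoidHom.mem_ker.1 hf, mul_one]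
  let K₁ : Subgroup ↥K := Subgroup.normalizer (T₁ : Set ↥K)
  have hsurj : Function.Surjective (φ.comp K₁.subtype) := by
    intro A
    obtain ⟨k, hk⟩ := hφ A
    have hk' : k ∈ K₁ ⊔ M := by rw [hfr]; trivial
    obtain ⟨n, hn, m', hm', rfl⟩ := Subgroup.mem_sup_of_normal_right.1 hk'
    refine ⟨⟨n, hn⟩, ?_⟩
    show φ n = A
    rw [← hk, map_mul, MonoidHom.mem_ker.1 hm', mul_one]
  let H₁ : Subgroup G := K₁.map K.subtype
  let Q : Subgroup G := T₁.map K.subtype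
  have hQp : IsPGroup p Q := hT₁p.map _
  have hH₁Q : H₁ ≤ N(Q) := Subgroup.le_normalizer_map K.subtype
  let ε := Subgroup.equivMapOfInjective K₁ K.subtype K.subtype_injective
  let φ₁ : ↥H₁ →* SL(2, ZMod p) := (φ.comp K₁.subtype).comp ε.symm.toMonoidHom
  have hφ₁ : Function.Surjective φ₁ := hsurj.comp ε.symm.surjective
  have hC : ∀ x : ↥H₁, (x : G) ∈ C(Q) → φ₁ x = 1 := by
    intro x hx
    obtain ⟨k, rfl⟩ := ε.surjective x
    have e1 : φ₁ (ε k) = φ (k : ↥K) := by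
      show φ ((ε.symm (ε k) : ↥K₁) : ↥K) = _
      rw [MulEquiv.symm_apply_apply]
    rw [e1]
    apply eq_one_of_mulVec_eq
    intro s
    obtain ⟨t, ht, hts⟩ := hcov s
    have hcomm : (k : ↥K) * t = t * (k : ↥K) := by
      apply Subtype.ext
      have h1 := Subgroup.mem_centralizer_iff.1 hx ((t : ↥K) : G) ⟨t, ht, rfl⟩
      exact h1.symm
    have hcomm' : θ' (k : ↥K) * mk 1 s * (θ' (k : ↥K))⁻¹ = mk 1 s := by
      rw [← hts, ← map_mul, hcomm, map_mul]
      group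
    rw [conj_translation] at hcomm'
    have h2 := congrArg tv hcomm'
    rw [tv_mk, tv_mk] at h2
    exact h2
  obtain ⟨K', hn, hCK', hK'H, ⟨e⟩⟩ := exists_section_of_hom (C := C(Q)) (H₁ := H₁)
    (fun y hy => normalizes_centralizer (hH₁Q hy)) φ₁ hφ₁ hC
  exact hfree Q hQp ⟨C(Q) ⊔ H₁, K', hn, hCK', hK'H, sup_le (cent_le_norm Q) hH₁Q, ⟨e⟩⟩

end NotInvolves

section Explicit

open Cfsg.Agent.Lib.PLocal.QdSection

variable {X : Type u} [Group X] [Finite X] {p : ℕ} [Fact p.Prime]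

/-- Explicit control of strong fusion by the lower `K`-infinity subgroup. -/
theorem ctrl_kInf (hp : p ≠ 2) (h : ¬ Involves ↥(qd p) X) (S : Sylow p X) :
    ∀ B : Subgroup X, B ≤ (S : Subgroup X) → ∀ g : X, cj g B ≤ (S : Subgroup X) →
      Ctrl N(inducedFunctor (G := X) kInfLower (S : Subgroup X)) B g := by
  have hst : ∀ (K R : Subgroup X) [hR : (R.subgroupOf K).Normal],
      IsNormalizerPStable p (↥K ⧸ R.subgroupOf K) := (not_involves_iff hp).1 h
  have hW : IsCharPFunctor.{u} p kInfLower := Cfsg.Agent.Lib.KInf.Transfer.isCharP_kInfLower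
  have h𝓦 : ∀ V ∈ ({kInfLower} : Set (∀ (Q : Type u) [Group Q], Subgroup Q)), IsCharPFunctor.{u} p V := by
    rintro _ rfl; exact hW
  have hall := sctl_sections_of_constrained (G := X) (p := p)
    (𝓦 := {kInfLower}) h𝓦 (fun K R hR hc S A g hA hg => by
      refine CC.single ⟨kInfLower, rfl, ?_⟩ hA hg
      have hn := (Cfsg.Agent.Lib.KInf.Main.kInf_normal_of_stable S (stable_quot_section hst K R) hc).1
      rw [Subgroup.normalizer_eq_top_iff.2 hn]
      exact Subgroup.mem_top _)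
  have htop := sctl_of_sections h𝓦 hall
  intro B hB g hg
  have h1 := htop S (B : Set X) g hB (by
    rintro _ ⟨a, ha, rfl⟩
    exact hg ⟨a, ha, rfl⟩)
  obtain ⟨x, hx, hxe⟩ := exists_of_cc
    (Subgroup.normalizer ((inducedFunctor (G := X) kInfLower (S : Subgroup X) : Subgroup X) : Set X))
    (Q := Stp {kInfLower} (S : Subgroup X))
    (by rintro y ⟨V, rfl, hy⟩; exact hy) h1
  exact ⟨x, hx, fun a ha => (hxe a ha).symm⟩

end Explicit

section CentralLift

variable {Γ Γ' : Type*} [Group Γ] [Group Γ'] [Finite Γ] [Finite Γ'] {p : ℕ} [Fact p.Prime]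

/-- Control lifts through central quotients. -/
theorem central_lift (π : Γ →* Γ') (hπ : Function.Surjective π)
    (hZ : ∀ z ∈ π.ker, ∀ x : Γ, x * z = z * x) {Y : Subgroup Γ} (hYk : π.ker ≤ Y)
    (hYp : IsPGroup p Y) (hYs : ¬ p ∣ Y.index) {U : Subgroup Γ'} (hU : Y ≤ N(U.comap π))
    (hc : ∀ B : Subgroup Γ', B ≤ Y.map π → ∀ g : Γ', cj g B ≤ Y.map π → Ctrl N(U) B g) :
    ∀ A : Subgroup Γ, A ≤ Y → ∀ n : Γ, cj n A ≤ Y → Ctrl N(U.comap π) A n := by
  have hDs : ¬ p ∣ Y.relIndex ⊤ := by rwa [Subgroup.relIndex_top_right]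
  intro A hA n hn
  refine ctrl_local_global (H := ⊤) (D := Y) le_top hYp hDs ?_ A hA n (Subgroup.mem_top _) hn
  intro T hTY hFN IH e he
  have heN : e ∈ N(T) := (Subgroup.mem_inf.1 he).2
  have hTe : cj e T = T := mem_normalizer_iff_cj.1 heN
  have hTp : IsPGroup p T := hYp.to_le hTY
  by_cases hZT : π.ker ≤ T
  · -- the kernel is in `T`
    have hTcomap : (T.map π).comap π = T := by
      rw [Subgroup.comap_map_eq, sup_eq_left.2 hZT]
    have hmemT : ∀ y : Γ, π y ∈ T.map π → y ∈ T := by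
      intro y hy
      have : y ∈ (T.map π).comap π := hy
      rwa [hTcomap] at this
    have hT₁ : T.map π ≤ Y.map π := Subgroup.map_mono hTY
    have hcj : ∀ g : Γ, cj (π g) (T.map π) = (cj g T).map π := by
      intro g
      ext y
      constructor
      · rintro ⟨_, ⟨t, ht, rfl⟩, rfl⟩
        exact ⟨g * t * g⁻¹, ⟨t, ht, rfl⟩, by simp [map_mul]⟩
      · rintro ⟨_, ⟨t, ht, rfl⟩, rfl⟩
        exact ⟨π t, ⟨t, ht, rfl⟩, by simp [map_mul]⟩
    obtain ⟨x', hx', hxe⟩ := hc (T.map π) hT₁ (π e) (by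
      rw [hcj, hTe]
      exact hT₁)
    obtain ⟨x, rfl⟩ := hπ x'
    -- `x` normalizes the preimage of `U`
    have hxU : x ∈ N(U.comap π) := by
      rw [Subgroup.mem_normalizer_iff]
      intro y
      have h1 := Subgroup.mem_normalizer_iff.1 hx' (π y)
      simp only [Subgroup.mem_comap, map_mul, map_inv]
      exact h1
    -- `x` normalizes `T`
    have hxT : x ∈ N(T) := by
      apply mem_normalizer_of_conj_mem
      intro t ht
      apply hmemT
      have h1 := hxe (π t) ⟨t, ht, rfl⟩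
      have h2 : π (x * t * x⁻¹) = π (e * t * e⁻¹) := by
        simp only [map_mul, map_inv]
        exact h1.symm
      rw [h2]
      exact ⟨_, (Subgroup.mem_normalizer_iff.1 heN t).1 ht, rfl⟩
    set d := x⁻¹ * e with hd
    have hdN : d ∈ N(T) := Subgroup.mul_mem _ ((N(T)).inv_mem hxT) heN
    set F : Subgroup Γ := (C(T.map π)).comap π with hF
    have hdF : d ∈ F := by
      rw [hF, Subgroup.mem_comap, Subgroup.mem_centralizer_iff]
      rintro _ ⟨t, ht, rfl⟩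
      have h1 := hxe (π t) ⟨t, ht, rfl⟩
      rw [hd]
      simp only [map_mul, map_inv]
      have h2 : π e * π t = (π x * π t * (π x)⁻¹) * π e := by
        rw [← h1]
        group
      calc π t * ((π x)⁻¹ * π e) = (π x)⁻¹ * ((π x * π t * (π x)⁻¹) * π e) := by group
        _ = (π x)⁻¹ * (π e * π t) := by rw [h2]
        _ = _ := by group
    have hFN' : F ≤ N(T) := by
      intro f hf
      apply mem_normalizer_of_conj_mem
      intro t ht
      apply hmemT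
      have h1 := Subgroup.mem_centralizer_iff.1 (show π f ∈ C(T.map π) from hf) (π t) ⟨t, ht, rfl⟩
      refine ⟨t, ht, ?_⟩
      simp only [map_mul, map_inv]
      rw [← h1]
      group
    set C₀ : Subgroup Γ := C(T) with hC₀
    have hC₀F : C₀ ≤ F := by
      intro c hc'
      rw [hF, Subgroup.mem_comap, Subgroup.mem_centralizer_iff]
      rintro _ ⟨t, ht, rfl⟩
      have h1 := Subgroup.mem_centralizer_iff.1 hc' t ht
      rw [← map_mul, ← map_mul, h1]
    set E : Subgroup Γ := ⊤ ⊓ N(T) with hE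
    have hFE : F ≤ E := le_inf le_top hFN'
    have hFn : E ≤ N(F) := by
      intro y hy
      have hy' := (Subgroup.mem_inf.1 hy).2
      have h1 : π y ∈ N(T.map π) := by
        rw [mem_normalizer_iff_cj, hcj, mem_normalizer_iff_cj.1 hy']
      have h2 : π y ∈ N(C(T.map π)) := normalizes_centralizer h1
      rw [Subgroup.mem_normalizer_iff] at h2 ⊢
      intro f
      have h3 := h2 (π f)
      simp only [hF, Subgroup.mem_comap, map_mul, map_inv]
      exact h3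
    have hFC : ∀ f ∈ F, ∃ k : ℕ, f ^ p ^ k ∈ C₀ := by
      intro f hf
      refine pow_mem_cent_of_stab (N₀ := π.ker) hTp (hFN' hf) ?_ ?_
      · rw [Subgroup.mem_centralizer_iff]
        intro z hz
        exact (hZ z (Subgroup.mem_inf.1 hz).2 f).symm
      · intro t ht
        rw [MonoidHom.mem_ker]
        have h1 := Subgroup.mem_centralizer_iff.1 (show π f ∈ C(T.map π) from hf) (π t) ⟨t, ht, rfl⟩
        simp only [map_mul, map_inv]
        rw [← h1]
        group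
    have hQE : Y ⊓ N(T) ≤ E := inf_le_inf_right _ le_top
    have hs : ¬ p ∣ ((Y ⊓ N(T)) ⊓ F).relIndex F := not_dvd_inf_relIndex hFE hFn hQE hFN
    obtain ⟨r, hr, c, hc', hdrc⟩ := exists_mul_of_pquot (p := p) (J := F) (F := C₀)
      (R := (Y ⊓ N(T)) ⊓ F) hC₀F (fun f hf => normalizes_centralizer (hFN' hf)) inf_le_right
      (hYp.to_le (inf_le_left.trans inf_le_left)) hs hFC d hdF
    have hrY : r ∈ Y := (Subgroup.mem_inf.1 (Subgroup.mem_inf.1 hr).1).1
    refine ⟨x * r, Subgroup.mul_mem _ hxU (hU hrY), fun t ht => ?_⟩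
    have e1 : e = x * r * c := by
      rw [mul_assoc, ← hdrc, hd]
      group
    have h1 := Subgroup.mem_centralizer_iff.1 hc' t ht
    rw [e1]
    calc x * r * c * t * (x * r * c)⁻¹ = x * r * (c * t) * c⁻¹ * (x * r)⁻¹ := by group
      _ = x * r * (t * c) * c⁻¹ * (x * r)⁻¹ := by rw [← h1]
      _ = _ := by group
  · -- the kernel is not in `T`
    have hσY : T ⊔ π.ker ≤ Y := sup_le hTY hYk
    have hlt : T < T ⊔ π.ker := lt_of_le_of_ne le_sup_left (fun h => hZT (by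
      rw [h]
      exact le_sup_right))
    have hker : cj e π.ker = π.ker := by
      have hn : (π.ker).Normal := inferInstance
      exact mem_normalizer_iff_cj.1 (by
        rw [Subgroup.normalizer_eq_top_iff.2 hn]
        exact Subgroup.mem_top _)
    have hmap : cj e (T ⊔ π.ker) = T ⊔ π.ker := by
      have e1 : cj e (T ⊔ π.ker) = cj e T ⊔ cj e π.ker := Subgroup.map_sup _ _ _
      rw [e1, hTe, hker]
    exact (IH _ hσY (card_lt_of_lt hlt) e (Subgroup.mem_top _) (by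
      rw [hmap]
      exact hσY)).mono le_sup_left

end CentralLift

section Good

variable {G : Type*} [Group G] {p : ℕ}

/-- A subgroup of `P`, normal in `P`, whose normalizer controls strong fusion in `P`. -/
def Good (P Y : Subgroup G) : Prop :=
  Y ≤ P ∧ P ≤ N(Y) ∧ ∀ A : Subgroup G, A ≤ P → ∀ g : G, cj g A ≤ P → Ctrl N(Y) A g

lemma good_bot (P : Subgroup G) : Good P (⊥ : Subgroup G) := by
  refine ⟨bot_le, fun x _ => ?_, fun A _ g _ => Ctrl.of_mem ?_⟩
  · rw [Subgroup.normalizer_eq_top_iff.2 inferInstance]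
    exact Subgroup.mem_top _
  · rw [Subgroup.normalizer_eq_top_iff.2 inferInstance]
    exact Subgroup.mem_top _

lemma cj_eq_of_conj {A : Subgroup G} {g h : G} (he : ∀ t ∈ A, g * t * g⁻¹ = h * t * h⁻¹) :
    cj h A = cj g A := by
  ext x
  constructor
  · rintro ⟨t, ht, rfl⟩
    exact ⟨t, ht, (he t ht)⟩
  · rintro ⟨t, ht, rfl⟩
    exact ⟨t, ht, (he t ht).symm⟩

variable [Finite G]

lemma Good.sup {P Y₁ Y₂ : Subgroup G} (h1 : Good P Y₁) (h2 : Good P Y₂) : Good P (Y₁ ⊔ Y₂) := by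
  refine ⟨sup_le h1.1 h2.1, fun x hx => normalizes_sup (h1.2.1 hx) (h2.2.1 hx), ?_⟩
  intro A hA g hg
  obtain ⟨h₁, hh₁, he₁⟩ := h1.2.2 A hA g hg
  have hAcj : cj h₁ A = cj g A := cj_eq_of_conj he₁
  have hB : A ⊔ Y₁ ≤ P := sup_le hA h1.1
  have hcj : cj h₁ (A ⊔ Y₁) ≤ P := by
    have e1 : cj h₁ (A ⊔ Y₁) = cj h₁ A ⊔ cj h₁ Y₁ := Subgroup.map_sup _ _ _
    rw [e1, hAcj, mem_normalizer_iff_cj.1 hh₁]
    exact sup_le hg h1.1
  obtain ⟨h₂, hh₂, he₂⟩ := h2.2.2 _ hB h₁ hcj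
  have hh₂₁ : h₂ ∈ N(Y₁) := by
    apply Cfsg.Agent.Lib.TransferCtl.Reduce.mem_normalizer_of_conj_mem
    intro y hy
    rw [← he₂ y ((le_sup_right : Y₁ ≤ A ⊔ Y₁) hy)]
    exact (Subgroup.mem_normalizer_iff.1 hh₁ y).1 hy
  exact ⟨h₂, normalizes_sup hh₂₁ hh₂, fun t ht =>
    (he₁ t ht).trans (he₂ t ((le_sup_left : A ≤ A ⊔ Y₁) ht))⟩

theorem exists_max_good (P : Subgroup G) : ∃ Q : Subgroup G, Good P Q ∧ ∀ Y, Good P Y → Y ≤ Q := by
  classical
  obtain ⟨Q, hQ, hmax⟩ := Set.exists_max_image {Y : Subgroup G | Good P Y}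
    (fun Y => Nat.card Y) (Set.toFinite _) ⟨⊥, good_bot P⟩
  refine ⟨Q, hQ, fun Y hY => ?_⟩
  have h1 := hmax _ (Good.sup hQ hY)
  have h2 : Q = Q ⊔ Y := Subgroup.eq_of_le_of_card_ge le_sup_left h1
  rw [h2]
  exact le_sup_right

end Good

section Local

variable {G : Type*} [Group G] [Finite G] {p : ℕ} [Fact p.Prime]

/-- The main local criterion: a subgroup `V` of `P ⊓ N₀` controlling fusion in `N₀` lies in `Q`. -/
theorem le_of_ctrl (S : Sylow p G) {Q N₀ V : Subgroup G} (hQ : Good (S : Subgroup G) Q)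
    (hmax : ∀ Y, Good (S : Subgroup G) Y → Y ≤ Q) (hN₀ : N₀ ≤ N(Q)) (hN₀n : N(Q) ≤ N(N₀))
    (hV : V ≤ (S : Subgroup G) ⊓ N₀) (hVn : (S : Subgroup G) ⊓ N₀ ≤ N(V))
    (hctrl : ∀ A : Subgroup G, A ≤ (S : Subgroup G) ⊓ N₀ → ∀ n ∈ N₀,
      cj n A ≤ (S : Subgroup G) ⊓ N₀ → Ctrl (N₀ ⊓ N(V)) A n) : V ≤ Q := by
  have hSH : (S : Subgroup G) ≤ N(Q) := hQ.2.1
  have hPs : ¬ p ∣ (S : Subgroup G).relIndex N(Q) := not_dvd_relIndex_of_le S hSH
  have hmain := lift_rel (p := p) (H := N(Q)) (N₀ := N₀) (P := (S : Subgroup G)) (V := V) hN₀ hN₀n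
    hSH S.isPGroup' hPs hV hVn hctrl
  set D : Subgroup G := (S : Subgroup G) ⊓ N₀ with hD
  set W : Subgroup G := ⨆ x : {x : G // x ∈ N(Q) ⊓ N(D)}, cj (x : G) V with hW
  have hWS : W ≤ (S : Subgroup G) := by
    refine iSup_le fun x => ?_
    have h1 := cj_mono (x : G) hV
    rw [mem_normalizer_iff_cj.1 (Subgroup.mem_inf.1 x.2).2] at h1
    exact h1.trans inf_le_left
  have hSW : (S : Subgroup G) ≤ N(W) := by
    intro u hu
    have huD : u ∈ N(D) := normalizes_inf (Subgroup.le_normalizer hu) (hN₀n (hSH hu))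
    have huH : u ∈ N(Q) := hSH hu
    apply Cfsg.Agent.Lib.TransferCtl.Reduce.mem_normalizer_of_conj_mem
    intro k hk
    have h1 : W ≤ W.comap (MulAut.conj u).toMonoidHom := by
      refine iSup_le fun y v hv => ?_
      have hy := Subgroup.mem_inf.1 y.2
      let y' : {x : G // x ∈ N(Q) ⊓ N(D)} :=
        ⟨u * y, Subgroup.mem_inf.2 ⟨Subgroup.mul_mem _ huH hy.1, Subgroup.mul_mem _ huD hy.2⟩⟩
      have h2 : (MulAut.conj u).toMonoidHom v ∈ cj (y' : G) V := by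
        show (MulAut.conj u).toMonoidHom v ∈ cj (u * y) V
        rw [← cj_cj]
        exact ⟨v, hv, rfl⟩
      exact (le_iSup (fun y : {x : G // x ∈ N(Q) ⊓ N(D)} => cj (y : G) V) y') h2
    exact h1 hk
  have hgood : Good (S : Subgroup G) W := by
    refine ⟨hWS, hSW, ?_⟩
    intro A hA g hg
    obtain ⟨h₁, hh₁, he₁⟩ := hQ.2.2 A hA g hg
    obtain ⟨h₂, hh₂, he₂⟩ := hmain A hA h₁ hh₁ (by
      rw [cj_eq_of_conj he₁]
      exact hg)
    exact ⟨h₂, (Subgroup.mem_inf.1 hh₂).2, fun t ht => (he₁ t ht).trans (he₂ t ht)⟩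
  have hVW : V ≤ W := by
    have h1 := le_iSup (fun y : {x : G // x ∈ N(Q) ⊓ N(D)} => cj (y : G) V)
      ⟨1, Subgroup.mem_inf.2 ⟨Subgroup.one_mem _, Subgroup.one_mem _⟩⟩
    simp only [cj_one] at h1
    exact h1
  exact hVW.trans (hmax W hgood)

/-- A central Sylow subgroup contains all `p`-elements. -/
theorem mem_of_central_sylow {Z C : Subgroup G} (hZC : Z ≤ C) (hZp : IsPGroup p Z)
    (hZs : ¬ p ∣ Z.relIndex C) (hZc : ∀ z ∈ Z, ∀ c ∈ C, c * z = z * c) {x : G} (hx : x ∈ C) {k : ℕ}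
    (hk : x ^ p ^ k = 1) : x ∈ Z := by
  have hzp : IsPGroup p (Subgroup.zpowers x) := by
    rw [IsPGroup.iff_card]
    have h1 : Nat.card (Subgroup.zpowers x) = orderOf x := Nat.card_zpowers x
    rw [h1]
    obtain ⟨j, -, hj⟩ := (Nat.dvd_prime_pow (Fact.out : p.Prime)).1 (orderOf_dvd_of_pow_eq_one hk)
    exact ⟨j, hj⟩
  obtain ⟨c, hc, hcx⟩ := exists_conj_le_of_sylowIn C Z (Subgroup.zpowers x) hZC hZp hZs
    (Subgroup.zpowers_le.2 hx) hzp
  have h1 : c * x * c⁻¹ ∈ Z := hcx ⟨x, Subgroup.mem_zpowers x, rfl⟩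
  have h2 := hZc _ h1 c hc
  have h3 : x = c * x * c⁻¹ := by
    have : c * (c * x * c⁻¹) * c⁻¹ = c * x * c⁻¹ := by rw [h2]; group
    have h4 : c * (c * x * c⁻¹) * c⁻¹ = c * (c * x * c⁻¹ * c⁻¹) := by group
    rw [h4] at this
    have h5 := mul_left_cancel (a := c) (b := c * x * c⁻¹ * c⁻¹) (c := x * c⁻¹) (by
      rw [this]; group)
    have h6 := mul_right_cancel h5
    exact h6.symm
  rw [h3]
  exact h1

end Local

section Centric

open Cfsg.Agent.Lib.PLocal.QdSection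

variable {G : Type u} [Group G] [Finite G] {p : ℕ} [Fact p.Prime]

/-- The maximal good subgroup contains the `p`-part of its centralizer. -/
theorem inf_cent_le (hp : p ≠ 2) (hni : ¬ Involves ↥(qd p) G) (S : Sylow p G) {Q : Subgroup G}
    (hQ : Good (S : Subgroup G) Q) (hmax : ∀ Y, Good (S : Subgroup G) Y → Y ≤ Q) :
    (S : Subgroup G) ⊓ C(Q) ≤ Q := by
  classical
  set N₀ : Subgroup G := C(Q) with hN₀
  have hQS : Q ≤ (S : Subgroup G) := hQ.1
  have hN₀Q : N₀ ≤ N(Q) := cent_le_norm Q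
  have hN₀n : N(Q) ≤ N(N₀) := fun x hx => normalizes_centralizer hx
  have hSQ : (S : Subgroup G) ≤ N(Q) := hQ.2.1
  have hZ₀n : (Q.subgroupOf N₀).Normal := by
    constructor
    intro z hz x
    rw [Subgroup.mem_subgroupOf] at hz ⊢
    have h1 := Subgroup.mem_centralizer_iff.1 x.2 _ hz
    have h2 : ((x * z * x⁻¹ : ↥N₀) : G) = z := by
      push_cast
      rw [← h1]
      group
    rw [h2]
    exact hz
  let Γ' := ↥N₀ ⧸ Q.subgroupOf N₀
  let π : ↥N₀ →* Γ' := QuotientGroup.mk' _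
  have hπ : Function.Surjective π := QuotientGroup.mk'_surjective _
  have hker : π.ker = Q.subgroupOf N₀ := QuotientGroup.ker_mk' _
  have hNot : ¬ Involves ↥(qd p) Γ' := fun hi => hni (involves_of_section hi)
  have hZ : ∀ z ∈ π.ker, ∀ x : ↥N₀, x * z = z * x := by
    intro z hz x
    rw [hker, Subgroup.mem_subgroupOf] at hz
    apply Subtype.ext
    exact (Subgroup.mem_centralizer_iff.1 x.2 _ hz).symm
  let Y₀ : Subgroup ↥N₀ := (S : Subgroup G).subgroupOf N₀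
  have hYk : π.ker ≤ Y₀ := by
    rw [hker]
    intro z hz
    rw [Subgroup.mem_subgroupOf] at hz ⊢
    exact hQS hz
  have hY₀p : IsPGroup p Y₀ := S.isPGroup'.comap_subtype
  have hY₀s : ¬ p ∣ Y₀.index := by
    have h1 := not_dvd_inf_relIndex hN₀Q hN₀n hSQ (not_dvd_relIndex_of_le S hSQ)
    rw [Subgroup.inf_relIndex_right] at h1
    exact h1
  let T : Sylow p Γ' := (hY₀p.map π).toSylow (by
    rw [Subgroup.index_map_eq _ hπ hYk]
    exact hY₀s)
  have hT : (T : Subgroup Γ') = Y₀.map π := rfl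
  have hW : IsCharPFunctor.{u} p kInfLower := Cfsg.Agent.Lib.KInf.Transfer.isCharP_kInfLower
  set U : Subgroup Γ' := inducedFunctor (G := Γ') kInfLower (T : Subgroup Γ') with hUdef
  have hTU : (T : Subgroup Γ') ≤ N(U) :=
    functor_le_normalizer (inducedFunctor_isConjugacyFunctor hW) T.isPGroup'
  have hU : Y₀ ≤ N(U.comap π) := by
    intro y hy
    have h1 : π y ∈ N(U) := hTU ⟨y, hy, rfl⟩
    rw [Subgroup.mem_normalizer_iff]
    intro z
    have h3 := Subgroup.mem_normalizer_iff.1 h1 (π z)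
    simp only [Subgroup.mem_comap, map_mul, map_inv]
    exact h3
  have hc := ctrl_kInf hp hNot T
  have hlift := central_lift π hπ hZ hYk hY₀p hY₀s hU (by
    intro B hB g hg
    exact hc B hB g hg)
  have hUT : U ≤ (T : Subgroup Γ') := inducedFunctor_le _
  have hcomapY : U.comap π ≤ Y₀ := by
    intro x hx
    have h1 : π x ∈ Y₀.map π := hUT hx
    have h2 : x ∈ (Y₀.map π).comap π := h1
    rwa [Subgroup.comap_map_eq, sup_eq_left.2 hYk] at h2
  set V : Subgroup G := (U.comap π).map N₀.subtype with hV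
  have hVS : V ≤ (S : Subgroup G) ⊓ N₀ := by
    rintro _ ⟨x, hx, rfl⟩
    exact Subgroup.mem_inf.2 ⟨Subgroup.mem_subgroupOf.1 (hcomapY hx), x.2⟩
  have hVn : (S : Subgroup G) ⊓ N₀ ≤ N(V) := by
    intro x hx
    have hx' := Subgroup.mem_inf.1 hx
    have hxY : (⟨x, hx'.2⟩ : ↥N₀) ∈ Y₀ := Subgroup.mem_subgroupOf.2 hx'.1
    exact Subgroup.le_normalizer_map N₀.subtype ⟨⟨x, hx'.2⟩, hU hxY, rfl⟩
  have hctrl : ∀ A : Subgroup G, A ≤ (S : Subgroup G) ⊓ N₀ → ∀ n ∈ N₀,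
      cj n A ≤ (S : Subgroup G) ⊓ N₀ → Ctrl (N₀ ⊓ N(V)) A n := by
    intro A hA n hn hnA
    have hA' : A.subgroupOf N₀ ≤ Y₀ := by
      intro a ha
      rw [Subgroup.mem_subgroupOf] at ha ⊢
      exact (Subgroup.mem_inf.1 (hA ha)).1
    have hnA' : cj (⟨n, hn⟩ : ↥N₀) (A.subgroupOf N₀) ≤ Y₀ := by
      rintro _ ⟨a, ha, rfl⟩
      rw [Subgroup.mem_subgroupOf]
      exact (Subgroup.mem_inf.1 (hnA ⟨(a : G), Subgroup.mem_subgroupOf.1 ha, rfl⟩)).1
    obtain ⟨h', hh', he'⟩ := hlift _ hA' ⟨n, hn⟩ hnA'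
    refine ⟨(h' : G), Subgroup.mem_inf.2 ⟨h'.2, Subgroup.le_normalizer_map N₀.subtype ⟨h', hh', rfl⟩⟩, ?_⟩
    intro t ht
    have htN : t ∈ N₀ := (Subgroup.mem_inf.1 (hA ht)).2
    have h1 := he' ⟨t, htN⟩ (Subgroup.mem_subgroupOf.2 ht)
    exact congrArg Subtype.val h1
  have hVQ : V ≤ Q := le_of_ctrl S hQ hmax hN₀Q hN₀n hVS hVn hctrl
  have hUbot : U = ⊥ := by
    rw [eq_bot_iff]
    intro u hu
    obtain ⟨x, rfl⟩ := hπ u
    have h1 : (x : G) ∈ Q := hVQ ⟨x, hu, rfl⟩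
    have h2 : x ∈ π.ker := by
      rw [hker]
      exact Subgroup.mem_subgroupOf.2 h1
    exact (Subgroup.mem_bot).2 (MonoidHom.mem_ker.1 h2)
  have hTbot : (T : Subgroup Γ') = ⊥ := by
    by_contra hne
    have hnt : Nontrivial ↥(T : Subgroup Γ') := (Subgroup.nontrivial_iff_ne_bot _).2 hne
    apply hW.1 ↥(T : Subgroup Γ') T.isPGroup' hnt
    exact (Subgroup.map_eq_bot_iff_of_injective _ (T : Subgroup Γ').subtype_injective).1 hUbot
  intro x hx
  have hx' := Subgroup.mem_inf.1 hx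
  have hxY : (⟨x, hx'.2⟩ : ↥N₀) ∈ Y₀ := Subgroup.mem_subgroupOf.2 hx'.1
  have h1 : π ⟨x, hx'.2⟩ ∈ (T : Subgroup Γ') := ⟨_, hxY, rfl⟩
  rw [hTbot, Subgroup.mem_bot] at h1
  have h2 : (⟨x, hx'.2⟩ : ↥N₀) ∈ π.ker := h1
  rw [hker] at h2
  exact Subgroup.mem_subgroupOf.1 h2

end Centric

section Radical

open Cfsg.Agent.Lib.Transfer.Basic

variable {G : Type*} [Group G] [Finite G] {p : ℕ} [Fact p.Prime]

/-- If a subgroup has a `p`-power relative index in a subgroup normalizing it then all elements have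
`p`-power powers in it. -/
lemma pow_mem_of_relIndex {F J : Subgroup G} (hFn : J ≤ N(F)) {k : ℕ} (hk : F.relIndex J = p ^ k) :
    ∀ x ∈ J, x ^ p ^ k ∈ F := by
  intro x hx
  have hn : (F.subgroupOf J).Normal := by
    constructor
    intro y hy g
    rw [Subgroup.mem_subgroupOf] at hy ⊢
    exact (Subgroup.mem_normalizer_iff.1 (hFn g.2) y).1 hy
  have hc : Nat.card (↥J ⧸ F.subgroupOf J) = p ^ k := by
    rw [← hk]
    rfl
  have h1 := pow_card_eq_one' (x := ((⟨x, hx⟩ : ↥J) : ↥J ⧸ F.subgroupOf J))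
  rw [hc, ← QuotientGroup.mk_pow, QuotientGroup.eq_one_iff, Subgroup.mem_subgroupOf] at h1
  simpa using h1

/-- The radical property. -/
theorem radical_of_good (S : Sylow p G) {Q : Subgroup G} (hQ : Good (S : Subgroup G) Q)
    (hmax : ∀ Y, Good (S : Subgroup G) Y → Y ≤ Q) (hcent : (S : Subgroup G) ⊓ C(Q) ≤ Q)
    {X : Subgroup G} (hXN : X ≤ N(Q)) (hXn : ∀ n ∈ N(Q), cj n X = X) (hQX : Q ⊔ C(Q) ≤ X)
    (hk : ∃ k : ℕ, (Q ⊔ C(Q)).relIndex X = p ^ k) : X = Q ⊔ C(Q) := by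
  set QC : Subgroup G := Q ⊔ C(Q) with hQC
  have hQS : Q ≤ (S : Subgroup G) := hQ.1
  have hSN : (S : Subgroup G) ≤ N(Q) := hQ.2.1
  have hN₀n : N(Q) ≤ N(X) := fun x hx => mem_normalizer_iff_cj.2 (hXn x hx)
  set T : Subgroup G := (S : Subgroup G) ⊓ X with hT
  have hTs : ¬ p ∣ T.relIndex X := not_dvd_inf_relIndex hXN hN₀n hSN (not_dvd_relIndex_of_le S hSN)
  have hTp : IsPGroup p T := S.isPGroup'.to_le inf_le_left
  have hQCn : X ≤ N(QC) := fun x hx => normalizes_sup (hXN hx)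
    (normalizes_centralizer (hXN hx))
  obtain ⟨k, hk⟩ := hk
  have hq : ∀ x ∈ X, ∃ j : ℕ, x ^ p ^ j ∈ QC := fun x hx => ⟨k, pow_mem_of_relIndex hQCn hk x hx⟩
  have hdec : ∀ n ∈ X, ∃ t ∈ T, ∃ c ∈ C(Q), n = t * c := by
    intro n hn
    obtain ⟨r, hr, f, hf, he⟩ := exists_mul_of_pquot (p := p) hQX hQCn inf_le_right hTp hTs hq n hn
    obtain ⟨q, hq', c, hc, hfe⟩ := mem_sup_of_le_normalizer (cent_le_norm Q) hf
    have hr' := Subgroup.mem_inf.1 hr
    refine ⟨r * q, Subgroup.mem_inf.2 ⟨Subgroup.mul_mem _ hr'.1 (hQS hq'),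
      X.mul_mem hr'.2 (hQX ((le_sup_left : Q ≤ QC) hq'))⟩, c, hc, ?_⟩
    rw [he, hfe]
    group
  set Z : Subgroup G := Q ⊓ C(Q) with hZ
  have hZS : Z ≤ (S : Subgroup G) := inf_le_left.trans hQS
  have hZC : Z ≤ C(Q) := inf_le_right
  have hZp : IsPGroup p Z := S.isPGroup'.to_le hZS
  have hZeq : (S : Subgroup G) ⊓ C(Q) = Z := le_antisymm (le_inf hcent inf_le_right)
    (inf_le_inf_right _ hQS)
  have hZs : ¬ p ∣ Z.relIndex C(Q) := by
    rw [← hZeq]
    exact not_dvd_inf_relIndex (cent_le_norm Q) (fun x hx => normalizes_centralizer hx) hSN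
      (not_dvd_relIndex_of_le S hSN)
  have hZc : ∀ z ∈ Z, ∀ c ∈ C(Q), c * z = z * c := fun z hz c hc =>
    (Subgroup.mem_centralizer_iff.1 hc z (Subgroup.mem_inf.1 hz).1).symm
  have hctrl : ∀ A : Subgroup G, A ≤ (S : Subgroup G) ⊓ X → ∀ n ∈ X,
      cj n A ≤ (S : Subgroup G) ⊓ X → Ctrl (X ⊓ N((S : Subgroup G) ⊓ X)) A n := by
    intro A hA n hn hnA
    obtain ⟨t, ht, c, hc, rfl⟩ := hdec n hn
    have ht' := Subgroup.mem_inf.1 ht
    have hcomm : ∀ a ∈ A, c * a * c⁻¹ * a⁻¹ ∈ Z := by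
      intro a ha
      have ha' := Subgroup.mem_inf.1 (hA ha)
      have h1 : t * c * a * (t * c)⁻¹ ∈ (S : Subgroup G) :=
        (Subgroup.mem_inf.1 (hnA ⟨a, ha, rfl⟩)).1
      have h2 : c * a * c⁻¹ ∈ (S : Subgroup G) := by
        have e : c * a * c⁻¹ = t⁻¹ * (t * c * a * (t * c)⁻¹) * t := by group
        rw [e]
        exact Subgroup.mul_mem _ (Subgroup.mul_mem _ (Subgroup.inv_mem _ ht'.1) h1) ht'.1
      have h3 : c * a * c⁻¹ * a⁻¹ ∈ (S : Subgroup G) := Subgroup.mul_mem _ h2 (Subgroup.inv_mem _ ha'.1)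
      have h4 : c * a * c⁻¹ * a⁻¹ ∈ C(Q) := by
        have e : c * a * c⁻¹ * a⁻¹ = c * (a * c⁻¹ * a⁻¹) := by group
        rw [e]
        exact Subgroup.mul_mem _ hc ((Subgroup.mem_normalizer_iff.1
          (normalizes_centralizer (hXN ha'.2)) c⁻¹).1 (Subgroup.inv_mem _ hc))
      rw [← hZeq]
      exact Subgroup.mem_inf.2 ⟨h3, h4⟩
    have hAZ : A ≤ N(Z) := fun a ha =>
      have ha' := hXN (Subgroup.mem_inf.1 (hA ha)).2
      normalizes_inf ha' (normalizes_centralizer ha')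
    set A' : Subgroup G := Z ⊔ A with hA'
    have hA'S : A' ≤ (S : Subgroup G) := sup_le hZS (hA.trans inf_le_left)
    have hA'p : IsPGroup p A' := S.isPGroup'.to_le hA'S
    have hzc : ∀ z ∈ Z, c * z * c⁻¹ = z := fun z hz => by
      rw [hZc z hz c hc]
      group
    have hcN : c ∈ N(A') := by
      apply Cfsg.Agent.Lib.TransferCtl.Reduce.mem_normalizer_of_conj_mem
      intro y hy
      have h1 : A' ≤ A'.comap (MulAut.conj c).toMonoidHom := by
        refine sup_le ?_ ?_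
        · intro z hz
          show c * z * c⁻¹ ∈ A'
          rw [hzc z hz]
          exact (le_sup_left : Z ≤ A') hz
        · intro a ha
          show c * a * c⁻¹ ∈ A'
          have e : c * a * c⁻¹ = (c * a * c⁻¹ * a⁻¹) * a := by group
          rw [e]
          exact A'.mul_mem ((le_sup_left : Z ≤ A') (hcomm a ha)) ((le_sup_right : A ≤ A') ha)
      exact h1 hy
    have hcz : ∀ y ∈ A', c * y * c⁻¹ * y⁻¹ ∈ Z := by
      intro y hy
      obtain ⟨z, hz, a, ha, rfl⟩ := mem_sup_of_le_normalizer hAZ hy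
      have e : c * (z * a) * c⁻¹ * (z * a)⁻¹ = (c * z * c⁻¹) * (c * a * c⁻¹ * a⁻¹) * z⁻¹ := by group
      rw [e, hzc z hz]
      exact Z.mul_mem (Z.mul_mem hz (hcomm a ha)) (Z.inv_mem hz)
    have hcc : c ∈ C(A' ⊓ Z) := by
      rw [Subgroup.mem_centralizer_iff]
      intro z hz
      exact (hZc z (Subgroup.mem_inf.1 hz).2 c hc).symm
    obtain ⟨a₀, ha₀⟩ := pow_mem_cent_of_stab hA'p hcN hcc hcz
    obtain ⟨u, w, hcuw, -, hu, hw, ⟨j, hj⟩, hwc⟩ := exists_pPart_decomp (p := p) c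
    have hwC : w ∈ C(A') := by
      refine Cfsg.Agent.Lib.PLocal.ThompsonComplement.mem_of_pow_mem_of_coprime hwc (k := a₀) ?_
      obtain ⟨m, rfl⟩ := Subgroup.mem_zpowers_iff.1 hw
      rw [← zpow_natCast, ← zpow_mul, mul_comm, zpow_mul, zpow_natCast]
      exact Subgroup.zpow_mem _ ha₀ _
    have huC : u ∈ C(Q) := (Subgroup.zpowers_le.2 hc) hu
    have huZ : u ∈ Z := mem_of_central_sylow hZC hZp hZs hZc huC hj
    have hQT : Q ≤ T := le_inf hQS ((le_sup_left : Q ≤ QC).trans hQX)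
    have htu : t * u ∈ T := T.mul_mem ht (hQT (Subgroup.mem_inf.1 huZ).1)
    refine ⟨t * u, Subgroup.mem_inf.2 ⟨(Subgroup.mem_inf.1 htu).2, Subgroup.le_normalizer htu⟩, ?_⟩
    intro a ha
    have h1 := Subgroup.mem_centralizer_iff.1 hwC a ((le_sup_right : A ≤ A') ha)
    rw [hcuw]
    calc t * (u * w) * a * (t * (u * w))⁻¹ = t * u * (w * a) * w⁻¹ * (t * u)⁻¹ := by group
      _ = t * u * (a * w) * w⁻¹ * (t * u)⁻¹ := by rw [← h1]
      _ = _ := by group
  have hle : T ≤ Q := le_of_ctrl S hQ hmax hXN hN₀n le_rfl Subgroup.le_normalizer hctrl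
  apply le_antisymm _ hQX
  intro n hn
  obtain ⟨t, ht, c, hc, rfl⟩ := hdec n hn
  exact QC.mul_mem ((le_sup_left : Q ≤ QC) (hle ht)) ((le_sup_right : C(Q) ≤ QC) hc)

/-- The maximal good subgroup lies in all centric-radical subgroups. -/
theorem le_of_radical (S : Sylow p G) {Q R : Subgroup G} (hQ : Good (S : Subgroup G) Q)
    (hRS : R ≤ (S : Subgroup G))
    (hRsyl : ∃ R₀ : Sylow p ↥C(R), (R₀ : Subgroup ↥C(R)).map C(R).subtype = R ⊓ C(R))
    (hrad : ∀ X : Subgroup G, X ≤ N(R) → (∀ n ∈ N(R), cj n X = X) → R ⊔ C(R) ≤ X →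
      (∃ k : ℕ, (R ⊔ C(R)).relIndex X = p ^ k) → X = R ⊔ C(R)) : Q ≤ R := by
  by_contra hne
  obtain ⟨u, huQ, huN, huR⟩ := exists_mem_normalizer_not_mem (p := p) hRS hQ.1 hQ.2.1 S.isPGroup' hne
  set Q₁ : Subgroup G := Q ⊓ N(R) with hQ₁
  set RC : Subgroup G := R ⊔ C(R) with hRC
  set X : Subgroup G := RC ⊔ Q₁ with hX
  have hRCN : RC ≤ N(R) := sup_le Subgroup.le_normalizer (cent_le_norm R)
  have hXN : X ≤ N(R) := sup_le hRCN inf_le_right
  have hRCn : N(R) ≤ N(RC) := fun x hx => normalizes_sup hx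
    (normalizes_centralizer hx)
  have hXn : ∀ n ∈ N(R), cj n X = X := by
    intro n hn
    apply mem_normalizer_iff_cj.1
    obtain ⟨h, hh, he⟩ := hQ.2.2 R hRS n (by
      rw [mem_normalizer_iff_cj.1 hn]
      exact hRS)
    have hc : h⁻¹ * n ∈ C(R) := mem_cent_of_ctrl he
    have hhN : h ∈ N(R) := by
      have e1 : h = n * (h⁻¹ * n)⁻¹ := by group
      rw [e1]
      exact Subgroup.mul_mem _ hn (Subgroup.inv_mem _ (cent_le_norm R hc))
    have hhX : h ∈ N(X) := normalizes_sup (hRCn hhN) (normalizes_inf hh (normalizes_normalizer hhN))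
    have e1 : n = h * (h⁻¹ * n) := by group
    rw [e1]
    refine Subgroup.mul_mem _ hhX (Subgroup.le_normalizer ?_)
    exact (le_sup_left : RC ≤ X) ((le_sup_right : C(R) ≤ RC) hc)
  have hRCX : RC ≤ X := le_sup_left
  have hQ₁p : IsPGroup p Q₁ := S.isPGroup'.to_le (inf_le_left.trans hQ.1)
  have hk : ∃ k : ℕ, RC.relIndex X = p ^ k := by
    have hn : (RC.subgroupOf X).Normal := by
      constructor
      intro y hy g
      rw [Subgroup.mem_subgroupOf] at hy ⊢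
      exact (Subgroup.mem_normalizer_iff.1 (hRCn (hXN g.2)) y).1 hy
    have hpg : IsPGroup p (↥X ⧸ RC.subgroupOf X) := by
      intro g
      obtain ⟨x, rfl⟩ := QuotientGroup.mk_surjective g
      obtain ⟨k, hk⟩ := pow_mem_of_mem_sup (inf_le_right.trans hRCn) hQ₁p x.2
      refine ⟨k, ?_⟩
      rw [← QuotientGroup.mk_pow, QuotientGroup.eq_one_iff, Subgroup.mem_subgroupOf]
      simpa using hk
    obtain ⟨k, hk⟩ := IsPGroup.iff_card.1 hpg
    exact ⟨k, hk⟩
  have hXeq := hrad X hXN hXn hRCX hk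
  have huX : u ∈ X := (le_sup_right : Q₁ ≤ X) (Subgroup.mem_inf.2 ⟨huQ, huN⟩)
  rw [hXeq] at huX
  obtain ⟨r, hr, c, hc, rfl⟩ := mem_sup_of_le_normalizer (cent_le_norm R) huX
  obtain ⟨R₀, hR₀⟩ := hRsyl
  have hZp : IsPGroup p (R ⊓ C(R) : Subgroup G) := by
    rw [← hR₀]
    exact R₀.isPGroup'.map _
  have hZs : ¬ p ∣ (R ⊓ C(R) : Subgroup G).relIndex C(R) := by
    rw [← hR₀, Subgroup.relIndex, Subgroup.subgroupOf]
    rw [Subgroup.comap_map_eq_self_of_injective C(R).subtype_injective]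
    exact R₀.not_dvd_index
  have hcS : c ∈ (S : Subgroup G) := by
    have e1 : c = r⁻¹ * (r * c) := by group
    rw [e1]
    exact Subgroup.mul_mem _ (Subgroup.inv_mem _ (hRS hr)) (hQ.1 huQ)
  obtain ⟨j, hj⟩ := S.isPGroup' ⟨c, hcS⟩
  have hj' : c ^ p ^ j = 1 := by
    have := congrArg Subtype.val hj
    simpa using this
  have hcZ : c ∈ (R ⊓ C(R) : Subgroup G) := mem_of_central_sylow inf_le_right hZp hZs
    (fun z hz c hc => (Subgroup.mem_centralizer_iff.1 hc z (Subgroup.mem_inf.1 hz).1).symm) hc hj'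
  exact huR (R.mul_mem hr (Subgroup.mem_inf.1 hcZ).1)

end Radical

section Main

open Cfsg.Agent.Lib.PLocal.QdSection

variable {G : Type u} [Group G] [Finite G] {p : ℕ} [Fact p.Prime]

/-- S1953 -/
theorem s1953 (hp : p ≠ 2) (P : Sylow p G)
    (hfree : ∀ Q : Subgroup G, IsPGroup p ↥Q → ¬ ∃ (H K : Subgroup G) (_ : (K.subgroupOf H).Normal),
      Subgroup.centralizer (Q : Set G) ≤ K ∧ K ≤ H ∧ H ≤ Subgroup.normalizer (Q : Set G) ∧
      Nonempty ((↥H ⧸ K.subgroupOf H) ≃* Matrix.SpecialLinearGroup (Fin 2) (ZMod p)))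
    (cr : Subgroup G → Prop)
    (hcr : ∀ Q : Subgroup G, cr Q ↔ (Q ≤ (P : Subgroup G) ∧
      (∃ R : Sylow p ↥(Subgroup.centralizer (Q : Set G)),
        (R : Subgroup ↥(Subgroup.centralizer (Q : Set G))).map (Subgroup.centralizer (Q : Set G)).subtype = Q ⊓ Subgroup.centralizer (Q : Set G)) ∧
      ∀ X : Subgroup G, X ≤ Subgroup.normalizer (Q : Set G) →
        (∀ n ∈ Subgroup.normalizer (Q : Set G), X.map (MulAut.conj n).toMonoidHom = X) →
        Q ⊔ Subgroup.centralizer (Q : Set G) ≤ X → (∃ k : ℕ, (Q ⊔ Subgroup.centralizer (Q : Set G)).relIndex X = p ^ k) →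
        X = Q ⊔ Subgroup.centralizer (Q : Set G))) :
    ∃ Q : Subgroup G, cr Q ∧ (∀ R : Subgroup G, cr R → Q ≤ R) ∧ (∀ x ∈ (P : Subgroup G), Q.map (MulAut.conj x).toMonoidHom = Q) ∧
      ∀ A : Subgroup G, A ≤ (P : Subgroup G) → ∀ g : G, A.map (MulAut.conj g).toMonoidHom ≤ (P : Subgroup G) →
        ∃ h ∈ Subgroup.normalizer (Q : Set G), ∃ c ∈ Subgroup.centralizer (A : Set G), g = h * c := by
  have hni := not_involves_of_free hfree
  obtain ⟨Q, hQ, hmax⟩ := exists_max_good (P : Subgroup G)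
  have hcent := inf_cent_le hp hni P hQ hmax
  have hSN : (P : Subgroup G) ≤ N(Q) := hQ.2.1
  refine ⟨Q, (hcr Q).2 ⟨hQ.1, ?_, ?_⟩, ?_, ?_, ?_⟩
  · have hYp : IsPGroup p ((P : Subgroup G).subgroupOf C(Q)) := P.isPGroup'.comap_subtype
    have hYs : ¬ p ∣ ((P : Subgroup G).subgroupOf C(Q)).index := by
      have h1 := not_dvd_inf_relIndex (cent_le_norm Q) (fun x hx => normalizes_centralizer hx) hSN
        (not_dvd_relIndex_of_le P hSN)
      rw [Subgroup.inf_relIndex_right] at h1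
      exact h1
    refine ⟨hYp.toSylow hYs, ?_⟩
    show ((P : Subgroup G).subgroupOf C(Q)).map C(Q).subtype = Q ⊓ C(Q)
    rw [Subgroup.subgroupOf_map_subtype]
    exact le_antisymm (le_inf hcent inf_le_right) (inf_le_inf_right _ hQ.1)
  · intro X hX1 hX2 hX3 hX4
    exact radical_of_good P hQ hmax hcent hX1 hX2 hX3 hX4
  · intro R hR
    obtain ⟨h1, h2, h3⟩ := (hcr R).1 hR
    exact le_of_radical P hQ h1 h2 h3
  · intro x hx
    exact mem_normalizer_iff_cj.1 (hSN hx)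
  · intro A hA g hg
    obtain ⟨h, hh, he⟩ := hQ.2.2 A hA g hg
    exact ⟨h, hh, h⁻¹ * g, mem_cent_of_ctrl he, by group⟩

end Main

end Cfsg.Agent.Lib.StrongSec.CentricRadical
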