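import Cfsg.Agent.Lib.StrongSec.Main
import Cfsg.Agent.Lib.KInf.Transfer

/-!
# Strong fusion and the K-infinity subgroups
-/

set_option autoImplicit false

namespace Cfsg.Agent.Lib.StrongSec.KInf

open Cfsg Cfsg.Agent.Lib.PLocal.Alperin Cfsg.Agent.Lib.ConjFam.Basic
  Cfsg.Agent.Lib.ConjFam.WellPlaced Cfsg.Agent.Lib.ConjFam.StrongCtl
  Cfsg.Agent.Lib.TransferCtl.Basic Cfsg.Agent.Lib.TransferCtl.Section
  Cfsg.Agent.Lib.StrongSec.Basic Cfsg.Agent.Lib.StrongSec.MinFail
  Cfsg.Agent.Lib.StrongSec.Constrained Cfsg.Agent.Lib.StrongSec.Main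

universe u

section Stable

variable {X Y : Type*} [Group X] [Group Y] [Finite X] [Finite Y] {p : ℕ} [Fact p.Prime]

/-- The converse of `stable_extract`. -/
theorem stable_of_extract
    (h : ∀ P : Subgroup X, IsPGroup p P → ∀ g ∈ Subgroup.normalizer (P : Set X),
      ⁅⁅P, Subgroup.zpowers g⁆, Subgroup.zpowers g⁆ = ⊥ →
      ∃ R : Subgroup X, R ≤ Subgroup.normalizer (P : Set X) ∧
        (∀ n ∈ Subgroup.normalizer (P : Set X), ∀ r ∈ R, n * r * n⁻¹ ∈ R) ∧ g ∈ R ∧
        ∀ y ∈ R, ∃ k : ℕ, y ^ (p ^ k) ∈ Subgroup.centralizer (P : Set X)) :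
    IsNormalizerPStable p X := by
  intro P hP g hg hq
  obtain ⟨R, hRN, hRn, hgR, hRp⟩ := h P hP g hg hq
  set N := Subgroup.normalizer (P : Set X) with hN
  let φ : ↥N →* ↥N ⧸ (Subgroup.centralizer (P : Set X)).subgroupOf N := QuotientGroup.mk' _
  have hφ : Function.Surjective φ := QuotientGroup.mk'_surjective _
  have hR₁ : (R.subgroupOf N).Normal := by
    constructor
    intro r hr n
    rw [Subgroup.mem_subgroupOf] at hr ⊢
    exact hRn n n.2 r hr
  have hmap : ((R.subgroupOf N).map φ).Normal := hR₁.map φ hφ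
  have hpg : IsPGroup p ((R.subgroupOf N).map φ) := by
    rintro ⟨_, r, hr, rfl⟩
    obtain ⟨k, hk⟩ := hRp r (Subgroup.mem_subgroupOf.1 hr)
    refine ⟨k, Subtype.ext ?_⟩
    show (φ r) ^ p ^ k = 1
    rw [← map_pow]
    refine (QuotientGroup.eq_one_iff _).2 ?_
    rw [Subgroup.mem_subgroupOf]
    simpa using hk
  exact Cfsg.Agent.Lib.Core.Basic.le_pCore hmap hpg ⟨⟨g, hg⟩, Subgroup.mem_subgroupOf.2 hgR, rfl⟩

/-- Stability transports along isomorphisms. -/
theorem stable_of_equiv (e : X ≃* Y) (h : IsNormalizerPStable p X) : IsNormalizerPStable p Y := by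
  refine stable_of_extract ?_
  intro P hP g hg hq
  set P₁ : Subgroup X := P.map e.symm.toMonoidHom with hP₁
  have hP₁p : IsPGroup p P₁ := hP.map _
  have hmem : ∀ x y : Y, x * y = y * x ↔ e.symm x * e.symm y = e.symm y * e.symm x := by
    intro x y
    rw [← map_mul, ← map_mul, e.symm.injective.eq_iff]
  have hn : ∀ y : Y, y ∈ Subgroup.normalizer (P : Set Y) ↔ e.symm y ∈ Subgroup.normalizer (P₁ : Set X) := by
    intro y
    rw [Subgroup.mem_normalizer_iff, Subgroup.mem_normalizer_iff]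
    constructor
    · intro h1 x
      constructor
      · rintro ⟨p₀, hp₀, rfl⟩
        exact ⟨y * p₀ * y⁻¹, (h1 p₀).1 hp₀, by simp [map_mul]⟩
      · rintro ⟨p₀, hp₀, he⟩
        have hx : x = e.symm (y⁻¹ * p₀ * y) := by
          have : e.symm y * x * (e.symm y)⁻¹ = e.symm p₀ := he.symm
          rw [map_mul, map_mul, map_inv, ← this]
          group
        refine ⟨y⁻¹ * p₀ * y, (h1 _).2 ?_, hx.symm⟩
        have e2 : y * (y⁻¹ * p₀ * y) * y⁻¹ = p₀ := by group
        rw [e2]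
        exact hp₀
    · intro h1 x
      constructor
      · intro hx
        have := (h1 (e.symm x)).1 ⟨x, hx, rfl⟩
        obtain ⟨p₀, hp₀, he⟩ := this
        have : p₀ = y * x * y⁻¹ := by
          apply e.symm.injective
          rw [map_mul, map_mul, map_inv]
          exact he
        rw [← this]
        exact hp₀
      · intro hx
        have := (h1 (e.symm x)).2 ⟨y * x * y⁻¹, hx, by simp [map_mul]⟩
        obtain ⟨p₀, hp₀, he⟩ := this
        have : p₀ = x := e.symm.injective he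
        rw [← this]
        exact hp₀
  have hc : ∀ y : Y, y ∈ Subgroup.centralizer (P : Set Y) ↔ e.symm y ∈ Subgroup.centralizer (P₁ : Set X) := by
    intro y
    rw [Subgroup.mem_centralizer_iff, Subgroup.mem_centralizer_iff]
    constructor
    · rintro h1 _ ⟨p₀, hp₀, rfl⟩
      exact (hmem _ _).1 (h1 p₀ hp₀)
    · intro h1 p₀ hp₀
      exact (hmem _ _).2 (h1 _ ⟨p₀, hp₀, rfl⟩)
  have hz : Subgroup.zpowers (e.symm g) = (Subgroup.zpowers g).map e.symm.toMonoidHom := by
    rw [MonoidHom.map_zpowers]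
    rfl
  have hq₁ : ⁅⁅P₁, Subgroup.zpowers (e.symm g)⁆, Subgroup.zpowers (e.symm g)⁆ = ⊥ := by
    rw [hz, hP₁, ← Subgroup.map_commutator, ← Subgroup.map_commutator, hq, Subgroup.map_bot]
  obtain ⟨R, hR1, hR2, hR3, hR4⟩ := Cfsg.Agent.Lib.KInf.Stable.stable_extract h hP₁p ((hn g).1 hg) hq₁
  refine ⟨R.map e.toMonoidHom, ?_, ?_, ⟨_, hR3, by simp⟩, ?_⟩
  · rintro _ ⟨r, hr, rfl⟩
    apply (hn _).2
    simpa using hR1 hr
  · rintro n hn' _ ⟨r, hr, rfl⟩
    refine ⟨e.symm n * r * (e.symm n)⁻¹, hR2 _ ((hn n).1 hn') r hr, ?_⟩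
    simp [map_mul]
  · rintro _ ⟨r, hr, rfl⟩
    obtain ⟨k, hk⟩ := hR4 r hr
    refine ⟨k, (hc _).2 ?_⟩
    simpa using hk

end Stable

section Main

variable {G : Type u} [Group G] [Finite G] {p : ℕ} [Fact p.Prime]

/-- Stability of quotients of sections. -/
theorem stable_quot_section
    (hst : ∀ (K R : Subgroup G) [hR : (R.subgroupOf K).Normal], IsNormalizerPStable p (↥K ⧸ R.subgroupOf K))
    (K R : Subgroup G) [hR : (R.subgroupOf K).Normal] (N : Subgroup (↥K ⧸ R.subgroupOf K)) (_ : N.Normal) :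
    IsNormalizerPStable p ((↥K ⧸ R.subgroupOf K) ⧸ N) := by
  obtain ⟨K₁, R₁, hR₁, ⟨e⟩⟩ := ((isSec_section K R).quotient N).exists_equiv
  exact stable_of_equiv e (hst K₁ R₁)

/-- A functor that is normal in the constrained sections controls strong fusion. -/
theorem controls_of_normal {W : ∀ (Q : Type u) [Group Q], Subgroup Q} (hW : IsCharPFunctor.{u} p W)
    (hloc : ∀ (K R : Subgroup G) [hR : (R.subgroupOf K).Normal],
      Subgroup.centralizer ((pCore p (↥K ⧸ R.subgroupOf K) : Subgroup (↥K ⧸ R.subgroupOf K)) : Set (↥K ⧸ R.subgroupOf K)) ≤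
        pCore p (↥K ⧸ R.subgroupOf K) → ∀ T : Sylow p (↥K ⧸ R.subgroupOf K),
        (inducedFunctor (G := (↥K ⧸ R.subgroupOf K)) W ((T : Subgroup (↥K ⧸ R.subgroupOf K)))).Normal)
    (S : Sylow p G) : ControlsStrongFusion p (inducedFunctor (G := G) W (S : Subgroup G)) := by
  have h𝓦 : ∀ V ∈ ({W} : Set (∀ (Q : Type u) [Group Q], Subgroup Q)), IsCharPFunctor.{u} p V := by
    rintro _ rfl; exact hW
  have hall := sctl_sections_of_constrained (G := G) (p := p)
    (𝓦 := {W}) h𝓦 (fun K R hR hc S A g hA hg => by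
      refine CC.single ⟨W, rfl, ?_⟩ hA hg
      have hn := hloc K R hc S
      rw [Subgroup.normalizer_eq_top_iff.2 hn]
      exact Subgroup.mem_top _)
  have htop := sctl_of_sections h𝓦 hall
  refine ⟨S, inducedFunctor_le _, ?_⟩
  intro A hA
  refine ⟨hA, ?_⟩
  intro g hg
  have h1 := htop S A g hA hg
  obtain ⟨x, hx, hxe⟩ := exists_of_cc
    (Subgroup.normalizer ((inducedFunctor (G := G) W (S : Subgroup G) : Subgroup G) : Set G))
    (Q := Stp {W} (S : Subgroup G))
    (by rintro y ⟨V, rfl, hy⟩; exact hy) h1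
  exact ⟨x, hx, fun a ha => (hxe a ha).symm⟩

/-- S1987 -/
theorem controls_kInfLower
    (hst : ∀ (K R : Subgroup G) [hR : (R.subgroupOf K).Normal], IsNormalizerPStable p (↥K ⧸ R.subgroupOf K))
    (S : Sylow p G) : ControlsStrongFusion p (inducedFunctor kInfLower (S : Subgroup G)) := by
  refine controls_of_normal Cfsg.Agent.Lib.KInf.Transfer.isCharP_kInfLower ?_ S
  intro K R hR hc T
  exact (Cfsg.Agent.Lib.KInf.Main.kInf_normal_of_stable T (stable_quot_section hst K R) hc).1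

end Main

end Cfsg.Agent.Lib.StrongSec.KInf
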