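import Cfsg.Agent.Lib.StrongSec.MinFail

/-!
# Control of strong fusion lifted from a normal subgroup

A relative local-to-global principle for control of conjugation, and the theorem that control of
strong fusion in a normal subgroup lifts to the group.
-/

set_option autoImplicit false
set_option linter.unusedSectionVars false

namespace Cfsg.Agent.Lib.StrongSec.NormalCtl

open Cfsg Cfsg.Agent.Lib.PLocal.Alperin Cfsg.Agent.Lib.ConjFam.Basic
  Cfsg.Agent.Lib.ConjFam.WellPlaced Cfsg.Agent.Lib.StrongSec.MinFail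
  Cfsg.Agent.Lib.TransferCtl.Reduce

local notation "N(" T ")" => Subgroup.normalizer (SetLike.coe (T : Subgroup _))
local notation "C(" T ")" => Subgroup.centralizer (SetLike.coe (T : Subgroup _))

variable {G : Type*} [Group G]

/-- On `T`, conjugation by `n` agrees with conjugation by an element of `K`. -/
def Ctrl (K T : Subgroup G) (n : G) : Prop := ∃ h ∈ K, ∀ t ∈ T, n * t * n⁻¹ = h * t * h⁻¹

lemma Ctrl.of_mem {K T : Subgroup G} {n : G} (hn : n ∈ K) : Ctrl K T n := ⟨n, hn, fun _ _ => rfl⟩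

lemma Ctrl.mono {K T T' : Subgroup G} {n : G} (hT : T' ≤ T) (h : Ctrl K T n) : Ctrl K T' n := by
  obtain ⟨k, hk, hk'⟩ := h
  exact ⟨k, hk, fun t ht => hk' t (hT ht)⟩

lemma Ctrl.comp {K T : Subgroup G} {n m : G} (h1 : Ctrl K T n) (h2 : Ctrl K (cj n T) m) :
    Ctrl K T (m * n) := by
  obtain ⟨a, ha, ha'⟩ := h1
  obtain ⟨b, hb, hb'⟩ := h2
  refine ⟨b * a, K.mul_mem hb ha, fun t ht => ?_⟩
  have e1 := hb' _ (conj_mem_cj (g := n) ht)
  have e2 := ha' t ht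
  calc m * n * t * (m * n)⁻¹ = m * (n * t * n⁻¹) * m⁻¹ := by group
    _ = b * (n * t * n⁻¹) * b⁻¹ := e1
    _ = b * (a * t * a⁻¹) * b⁻¹ := by rw [e2]
    _ = b * a * t * (b * a)⁻¹ := by group

lemma Ctrl.inv {K T : Subgroup G} {n : G} (h : Ctrl K T n) : Ctrl K (cj n T) n⁻¹ := by
  obtain ⟨a, ha, ha'⟩ := h
  refine ⟨a⁻¹, K.inv_mem ha, ?_⟩
  rintro _ ⟨t, ht, rfl⟩
  show n⁻¹ * (n * t * n⁻¹) * n⁻¹⁻¹ = a⁻¹ * (n * t * n⁻¹) * a⁻¹⁻¹
  have e := ha' t ht
  calc n⁻¹ * (n * t * n⁻¹) * n⁻¹⁻¹ = t := by group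
    _ = a⁻¹ * (a * t * a⁻¹) * a⁻¹⁻¹ := by group
    _ = _ := by rw [e]

lemma Ctrl.cent {K T : Subgroup G} {c e : G} (h : Ctrl K T e)
    (hc : ∀ t ∈ T, c * (e * t * e⁻¹) = (e * t * e⁻¹) * c) : Ctrl K T (c * e) := by
  obtain ⟨a, ha, ha'⟩ := h
  refine ⟨a, ha, fun t ht => ?_⟩
  rw [← ha' t ht]
  calc c * e * t * (c * e)⁻¹ = (c * (e * t * e⁻¹)) * c⁻¹ := by group
    _ = e * t * e⁻¹ := by rw [hc t ht]; group

/-- A `p`-group grows normalizers, for a subgroup normalized by the ambient `p`-group. -/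
lemma mem_sup_of_le_normalizer {V T : Subgroup G} (h : T ≤ N(V)) {x : G} (hx : x ∈ V ⊔ T) :
    ∃ v ∈ V, ∃ t ∈ T, x = v * t := by
  rw [Subgroup.sup_eq_closure] at hx
  induction hx using Subgroup.closure_induction with
  | mem y hy =>
    rcases hy with hy | hy
    · exact ⟨y, hy, 1, T.one_mem, by simp⟩
    · exact ⟨1, V.one_mem, y, hy, by simp⟩
  | one => exact ⟨1, V.one_mem, 1, T.one_mem, by simp⟩
  | mul a b _ _ ha hb =>
    obtain ⟨v, hv, t, ht, rfl⟩ := ha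
    obtain ⟨v', hv', t', ht', rfl⟩ := hb
    refine ⟨v * (t * v' * t⁻¹), V.mul_mem hv ((Subgroup.mem_normalizer_iff.1 (h ht) v').1 hv'),
      t * t', T.mul_mem ht ht', by group⟩
  | inv a _ ha =>
    obtain ⟨v, hv, t, ht, rfl⟩ := ha
    have h1 : t⁻¹ * v⁻¹ * t⁻¹⁻¹ ∈ V :=
      (Subgroup.mem_normalizer_iff.1 (h (T.inv_mem ht)) v⁻¹).1 (V.inv_mem hv)
    exact ⟨t⁻¹ * v⁻¹ * t⁻¹⁻¹, h1, t⁻¹, T.inv_mem ht, by group⟩

section Finite

variable [Finite G] {p : ℕ} [Fact p.Prime]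

lemma exists_mem_normalizer_not_mem {V T D : Subgroup G} (hT : T ≤ D) (hV : V ≤ D)
    (hVn : D ≤ N(V)) (hDp : IsPGroup p D) (hne : ¬ V ≤ T) : ∃ v ∈ V, v ∈ N(T) ∧ v ∉ T := by
  have hR : V ⊔ T ≤ D := sup_le hV hT
  have hRp : IsPGroup p (V ⊔ T : Subgroup G) := hDp.to_le hR
  have hlt : T < V ⊔ T := lt_of_le_of_ne le_sup_right (fun h => hne (by rw [h]; exact le_sup_left))
  have h1 := lt_inf_normalizer (p := p) hRp hlt
  obtain ⟨x, hx, hxT⟩ := SetLike.exists_of_lt h1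
  obtain ⟨v, hv, t, ht, rfl⟩ := mem_sup_of_le_normalizer (hT.trans hVn) hx.1
  refine ⟨v, hv, ?_, fun hvT => hxT (T.mul_mem hvT ht)⟩
  have h2 : v = (v * t) * t⁻¹ := by group
  rw [h2]
  exact Subgroup.mul_mem _ hx.2 (Subgroup.le_normalizer (T.inv_mem ht))

/-- A Frattini lemma relative to a Sylow subgroup of `E`. -/
lemma frattini_rel {E F C₀ Q : Subgroup G} (hFE : F ≤ E) (hFn : E ≤ N(F)) (hC₀F : C₀ ≤ F)
    (hC₀n : E ≤ N(C₀)) (hFC : ∀ f ∈ F, ∃ k : ℕ, f ^ p ^ k ∈ C₀) (hQE : Q ≤ E) (hQp : IsPGroup p Q)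
    (hQs : ¬ p ∣ Q.relIndex E) :
    ∀ e ∈ E, ∃ c ∈ C₀, ∃ e' ∈ E, e = c * e' ∧ e' ∈ N(F ⊓ Q) := by
  intro e he
  have hs : ¬ p ∣ (Q ⊓ F).relIndex F := not_dvd_inf_relIndex hFE hFn hQE hQs
  have hs' : ¬ p ∣ (F ⊓ Q).relIndex F := by rwa [inf_comm]
  have hp' : IsPGroup p (F ⊓ Q : Subgroup G) := hQp.to_le inf_le_right
  have hconj : cj e (F ⊓ Q) ≤ F := by
    rintro _ ⟨x, hx, rfl⟩
    exact (Subgroup.mem_normalizer_iff.1 (hFn he) x).1 hx.1
  obtain ⟨f, hf, hfc⟩ := exists_conj_le_of_sylowIn F (F ⊓ Q) (cj e (F ⊓ Q)) inf_le_left hp' hs' hconj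
    (isPGroup_cj hp' e)
  have hfe : f * e ∈ N(F ⊓ Q) := by
    rw [mem_normalizer_iff_cj, ← cj_cj]
    apply Subgroup.eq_of_le_of_card_ge hfc
    rw [card_cj, card_cj]
  have hfn : C₀.subgroupOf F ≤ ⊤ := le_top
  obtain ⟨q, hq, c, hc, hqc⟩ := exists_mul_of_pquot (J := F) (F := C₀) (R := F ⊓ Q) hC₀F
    (fun x hx => hC₀n (hFE hx)) inf_le_left hp' hs' hFC f hf
  refine ⟨c⁻¹, C₀.inv_mem hc, q⁻¹ * (f * e), ?_, ?_, ?_⟩
  · exact E.mul_mem (E.inv_mem (hFE hq.1)) (E.mul_mem (hFE hf) he)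
  · rw [hqc]
    group
  · exact Subgroup.mul_mem _ (Subgroup.le_normalizer ((F ⊓ Q).inv_mem hq)) hfe

/-- A power of an element of `C ⊔ Y` lies in `C`, for a `p`-group `Y` normalizing `C`. -/
lemma pow_mem_of_mem_sup {C Y : Subgroup G} (hYC : Y ≤ N(C)) (hYp : IsPGroup p Y) {f : G}
    (hf : f ∈ C ⊔ Y) : ∃ k : ℕ, f ^ p ^ k ∈ C := by
  obtain ⟨c, hc, y, hy, rfl⟩ := mem_sup_of_le_normalizer hYC hf
  have key : ∀ n : ℕ, ∃ d ∈ C, (c * y) ^ n = d * y ^ n := by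
    intro n
    induction n with
    | zero => exact ⟨1, C.one_mem, by simp⟩
    | succ n ih =>
      obtain ⟨d, hd, he⟩ := ih
      have h1 : y ^ n * c * (y ^ n)⁻¹ ∈ C :=
        (Subgroup.mem_normalizer_iff.1 (hYC (Y.pow_mem hy n)) c).1 hc
      refine ⟨d * (y ^ n * c * (y ^ n)⁻¹), C.mul_mem hd h1, ?_⟩
      rw [pow_succ, he, pow_succ]
      group
  obtain ⟨k, hk⟩ := hYp ⟨y, hy⟩
  have hk' : y ^ p ^ k = 1 := by
    have := congrArg Subtype.val hk
    simpa using this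
  obtain ⟨d, hd, he⟩ := key (p ^ k)
  refine ⟨k, ?_⟩
  rw [he, hk', mul_one]
  exact hd

/-- Fully normalized in `H` with respect to `D`. -/
def FN (p : ℕ) (H D T : Subgroup G) : Prop := ¬ p ∣ (D ⊓ N(T)).relIndex (H ⊓ N(T))

lemma exists_fn {H D A : Subgroup G} (hDH : D ≤ H) (hDp : IsPGroup p D) (hDs : ¬ p ∣ D.relIndex H)
    (hA : A ≤ D) : ∃ x ∈ H, cj x A ≤ D ∧ FN p H D (cj x A) := by
  classical
  let 𝓢 : Set G := {x | x ∈ H ∧ cj x A ≤ D}
  have hne : 𝓢.Nonempty := ⟨1, H.one_mem, by rw [cj_one]; exact hA⟩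
  obtain ⟨x, hx, hmax⟩ := Set.exists_max_image 𝓢
    (fun x => Nat.card (D ⊓ N(cj x A) : Subgroup G)) (Set.toFinite _) hne
  refine ⟨x, hx.1, hx.2, ?_⟩
  set U := cj x A with hU
  have hUD : U ≤ D := hx.2
  set X : Subgroup G := H ⊓ N(U) with hX
  set Q₀ : Subgroup G := D ⊓ N(U) with hQ₀
  have hQ₀X : Q₀ ≤ X := inf_le_inf_right _ hDH
  have hQ₀p : IsPGroup p Q₀ := hDp.to_le inf_le_left
  have hp₁ : IsPGroup p (Q₀.subgroupOf X) := hQ₀p.comap_subtype
  obtain ⟨T₂, hT₂⟩ := hp₁.exists_le_sylow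
  let R : Subgroup G := (T₂ : Subgroup X).map X.subtype
  have hRX : R ≤ X := Subgroup.map_subtype_le _
  have hRp : IsPGroup p R := T₂.isPGroup'.map _
  have hQ₀R : Q₀ ≤ R := by
    intro q hq
    exact ⟨⟨q, hQ₀X hq⟩, hT₂ (by simpa [Subgroup.mem_subgroupOf] using hq), rfl⟩
  have hUQ : U ≤ Q₀ := le_inf hUD Subgroup.le_normalizer
  have hRH : R ≤ H := hRX.trans inf_le_left
  obtain ⟨y, hyH, hy⟩ := exists_conj_le_of_sylowIn H D R hDH hDp hDs hRH hRp
  have hU' : cj y U ≤ D := (cj_mono y (hUQ.trans hQ₀R)).trans hy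
  have hmem : y * x ∈ 𝓢 := by
    refine ⟨H.mul_mem hyH hx.1, ?_⟩
    rw [← cj_cj]
    exact hU'
  have hle := hmax (y * x) hmem
  have hN : cj y R ≤ D ⊓ N(cj y U) := by
    refine le_inf hy ?_
    rw [← cj_normalizer]
    exact cj_mono y (hRX.trans inf_le_right)
  have hcard : Nat.card R ≤ Nat.card Q₀ := by
    calc Nat.card R = Nat.card (cj y R) := (card_cj y R).symm
      _ ≤ Nat.card (D ⊓ N(cj y U) : Subgroup G) := Subgroup.card_le_of_le hN
      _ ≤ Nat.card Q₀ := by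
        have e : cj (y * x) A = cj y U := by rw [hU, cj_cj]
        rw [← e]
        exact hle
  have hRQ : Q₀ = R := Subgroup.eq_of_le_of_card_ge hQ₀R hcard
  have hTe : Q₀.subgroupOf X = (T₂ : Subgroup X) := by
    rw [hRQ]
    exact Subgroup.comap_map_eq_self_of_injective X.subtype_injective _
  intro hd
  apply T₂.not_dvd_index
  rw [← hTe]
  exact hd

lemma exists_ext {H D U B : Subgroup G} (hDp : IsPGroup p D) (hDH : D ≤ H) (hU : FN p H D U)
    {w : G} (hw : w ∈ H) (hB : cj w B = U) :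
    ∃ z ∈ H, cj z B = U ∧ cj z (D ⊓ N(B)) ≤ D := by
  have hR : cj w (D ⊓ N(B)) ≤ H ⊓ N(U) := by
    intro x hx
    obtain ⟨t, ht, rfl⟩ := hx
    have h0 := Subgroup.mem_inf.1 ht
    have h1 : w * t * w⁻¹ ∈ H := H.mul_mem (H.mul_mem hw (hDH h0.1)) (H.inv_mem hw)
    have h2 : w * t * w⁻¹ ∈ N(U) := by
      rw [← hB, ← cj_normalizer]
      exact conj_mem_cj h0.2
    exact Subgroup.mem_inf.2 ⟨h1, h2⟩
  have hRp : IsPGroup p (cj w (D ⊓ N(B))) := isPGroup_cj (hDp.to_le inf_le_left) w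
  have hU' : ¬ p ∣ (D ⊓ N(U)).relIndex (H ⊓ N(U)) := hU
  have hDp' : IsPGroup p (D ⊓ N(U) : Subgroup G) := hDp.to_le inf_le_left
  have hle : D ⊓ N(U) ≤ H ⊓ N(U) := inf_le_inf_right _ hDH
  obtain ⟨m, hm, hmR⟩ : ∃ m ∈ H ⊓ N(U), cj m (cj w (D ⊓ N(B))) ≤ D ⊓ N(U) :=
    exists_conj_le_of_sylowIn _ _ _ hle hDp' hU' hR hRp
  have hm' := Subgroup.mem_inf.1 hm
  refine ⟨m * w, H.mul_mem hm'.1 hw, ?_, ?_⟩
  · rw [← cj_cj, hB]
    exact mem_normalizer_iff_cj.1 hm'.2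
  · rw [← cj_cj]
    exact hmR.trans inf_le_left

/-- The relative local-to-global principle. -/
theorem ctrl_local_global {H D K : Subgroup G} (hDH : D ≤ H) (hDp : IsPGroup p D)
    (hDs : ¬ p ∣ D.relIndex H)
    (hstep : ∀ T : Subgroup G, T ≤ D → FN p H D T →
      (∀ T' : Subgroup G, T' ≤ D → Nat.card T < Nat.card T' → ∀ n ∈ H, cj n T' ≤ D → Ctrl K T' n) →
      ∀ e ∈ H ⊓ N(T), Ctrl K T e) :
    ∀ A : Subgroup G, A ≤ D → ∀ n ∈ H, cj n A ≤ D → Ctrl K A n := by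
  have key : ∀ m : ℕ, ∀ A : Subgroup G, A ≤ D → Nat.card D - Nat.card A = m →
      ∀ n ∈ H, cj n A ≤ D → Ctrl K A n := by
    intro m
    induction m using Nat.strong_induction_on with
    | _ m ih =>
      intro A hA hm n hn hnA
      have hcardA : Nat.card A ≤ Nat.card D := Subgroup.card_le_of_le hA
      have IH : ∀ T' : Subgroup G, T' ≤ D → Nat.card A < Nat.card T' → ∀ n ∈ H, cj n T' ≤ D →
          Ctrl K T' n := by
        intro T' hT' hlt n hn hnT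
        have hc : Nat.card T' ≤ Nat.card D := Subgroup.card_le_of_le hT'
        exact ih (Nat.card D - Nat.card T') (by omega) T' hT' rfl n hn hnT
      by_cases hAD : A = D
      · subst hAD
        have hnN : n ∈ N(A) := by
          rw [mem_normalizer_iff_cj]
          apply Subgroup.eq_of_le_of_card_ge hnA
          rw [card_cj]
        have hFN : FN p H A A := by
          have e1 : A ⊓ N(A) = A := inf_eq_left.2 Subgroup.le_normalizer
          show ¬ p ∣ _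
          intro hd
          rw [e1] at hd
          apply hDs
          have h2 := Subgroup.relIndex_mul_relIndex A (H ⊓ N(A)) H
            (le_inf hDH Subgroup.le_normalizer) inf_le_left
          rw [← h2]
          exact hd.trans (dvd_mul_right _ _)
        exact hstep A le_rfl hFN IH n ⟨hn, hnN⟩
      · have hlt : A < D := lt_of_le_of_ne hA hAD
        -- a fully normalized conjugate
        obtain ⟨a, haH, haD, haFN⟩ := exists_fn hDH hDp hDs hA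
        set U := cj a A with hU
        have hextA := exists_ext hDp hDH haFN haH rfl
        obtain ⟨a', ha'H, ha'U, ha'N⟩ := hextA
        have hAN : A < D ⊓ N(A) := lt_inf_normalizer (p := p) (hDp) hlt |>.trans_le le_rfl
        have hCa : Ctrl K A a' := (IH _ inf_le_left (card_lt_of_lt hAN) a' ha'H ha'N).mono hAN.le
        set B := cj n A with hB
        have hBcard : Nat.card B = Nat.card A := card_cj n A
        have hBlt : B < D := by
          refine lt_of_le_of_ne hnA ?_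
          intro h
          have : Nat.card A = Nat.card D := by rw [← hBcard, h]
          exact hAD (Subgroup.eq_of_le_of_card_ge hA this.ge)
        have hwB : cj (a * n⁻¹) B = U := by
          rw [hB, cj_cj, inv_mul_cancel_right]
        obtain ⟨b, hbH, hbU, hbN⟩ := exists_ext hDp hDH haFN (H.mul_mem haH (H.inv_mem hn)) hwB
        have hBN : B < D ⊓ N(B) := lt_inf_normalizer (p := p) hDp hBlt
        have hCb : Ctrl K B b := (IH _ inf_le_left (by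
          rw [← hBcard]
          exact card_lt_of_lt hBN) b hbH hbN).mono hBN.le
        -- the element in the normalizer of `U`
        set e := b * n * a'⁻¹ with he
        have heU : e ∈ H ⊓ N(U) := by
          refine Subgroup.mem_inf.2 ⟨H.mul_mem (H.mul_mem hbH hn) (H.inv_mem ha'H), ?_⟩
          rw [mem_normalizer_iff_cj]
          have h1 : cj a'⁻¹ U = A := by
            rw [← ha'U, cj_cj, inv_mul_cancel, cj_one]
          rw [he, ← cj_cj, ← cj_cj, h1, ← hB, hbU]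
        have hUcard : Nat.card U = Nat.card A := card_cj a A
        have hCe : Ctrl K U e := hstep U haD haFN (by
          intro T' hT' hlt' n' hn' hnT'
          exact IH T' hT' (by omega) n' hn' hnT') e heU
        -- composition
        have h1 : Ctrl K A (e * a') := hCa.comp (by rw [ha'U]; exact hCe)
        have h2 : Ctrl K (cj b B) b⁻¹ := hCb.inv
        have h3 : Ctrl K A (b⁻¹ * (e * a')) := h1.comp (by
          have e2 : cj (e * a') A = U := by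
            rw [← cj_cj, ha'U]
            exact mem_normalizer_iff_cj.1 heU.2
          rw [e2, ← hbU]
          exact h2)
        have e3 : b⁻¹ * (e * a') = n := by
          rw [he]
          group
        rwa [e3] at h3
  intro A hA n hn hnA
  exact key _ A hA rfl n hn hnA

omit [Finite G] [Fact p.Prime] in
lemma normalizes_inf {A B : Subgroup G} {x : G} (hA : x ∈ N(A)) (hB : x ∈ N(B)) : x ∈ N(A ⊓ B) := by
  rw [Subgroup.mem_normalizer_iff] at hA hB ⊢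
  intro y
  constructor
  · rintro ⟨h1, h2⟩
    exact ⟨(hA y).1 h1, (hB y).1 h2⟩
  · rintro ⟨h1, h2⟩
    exact ⟨(hA y).2 h1, (hB y).2 h2⟩

omit [Finite G] [Fact p.Prime] in
lemma normalizes_sup {A B : Subgroup G} {x : G} (hA : x ∈ N(A)) (hB : x ∈ N(B)) : x ∈ N(A ⊔ B) := by
  rw [mem_normalizer_iff_cj] at hA hB ⊢
  have e : cj x (A ⊔ B) = cj x A ⊔ cj x B := Subgroup.map_sup _ _ _
  rw [e, hA, hB]

omit [Finite G] [Fact p.Prime] in
lemma normalizes_normalizer {A : Subgroup G} {x : G} (hA : x ∈ N(A)) : x ∈ N(N(A)) :=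
  Subgroup.le_normalizer hA

omit [Finite G] [Fact p.Prime] in
lemma normalizes_centralizer {A : Subgroup G} {x : G} (hA : x ∈ N(A)) : x ∈ N(C(A)) := by
  rw [Subgroup.mem_normalizer_iff]
  have key : ∀ x : G, x ∈ N(A) → ∀ y ∈ C(A), x * y * x⁻¹ ∈ C(A) := by
    intro x hA y hy
    rw [Subgroup.mem_centralizer_iff] at hy ⊢
    intro t ht
    have h1 : x⁻¹ * t * x ∈ A := by
      have := (Subgroup.mem_normalizer_iff.1 ((N(A)).inv_mem hA) t).1 ht
      simpa using this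
    have h2 := hy _ h1
    calc t * (x * y * x⁻¹) = x * ((x⁻¹ * t * x) * y) * x⁻¹ := by group
      _ = x * (y * (x⁻¹ * t * x)) * x⁻¹ := by rw [h2]
      _ = x * y * x⁻¹ * t := by group
  intro y
  refine ⟨key x hA y, fun h => ?_⟩
  have := key x⁻¹ ((N(A)).inv_mem hA) _ h
  simpa [mul_assoc] using this

omit [Fact p.Prime] [Finite G] in
lemma mem_cent_of_ctrl {T : Subgroup G} {h x : G} (hh : ∀ t ∈ T, x * t * x⁻¹ = h * t * h⁻¹) :
    h⁻¹ * x ∈ C(T) := by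
  rw [Subgroup.mem_centralizer_iff]
  intro t ht
  have e := hh t ht
  calc t * (h⁻¹ * x) = h⁻¹ * (h * t * h⁻¹) * x := by group
    _ = h⁻¹ * (x * t * x⁻¹) * x := by rw [e]
    _ = h⁻¹ * x * t := by group

/-- The join of controlling subgroups controls. -/
theorem ctrl_join {H D : Subgroup G} (hDH : D ≤ H) (hDp : IsPGroup p D) (hDs : ¬ p ∣ D.relIndex H)
    {ι : Type*} (V : ι → Subgroup G) (hVD : ∀ i, V i ≤ D) (hVn : ∀ i, D ≤ N(V i))
    (hctl : ∀ i, ∀ A : Subgroup G, A ≤ D → ∀ n ∈ H, cj n A ≤ D → Ctrl (H ⊓ N(V i)) A n) :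
    ∀ A : Subgroup G, A ≤ D → ∀ n ∈ H, cj n A ≤ D → Ctrl (H ⊓ N(⨆ i, V i)) A n := by
  refine ctrl_local_global hDH hDp hDs ?_
  intro T hTD hFN IH e he
  have heH : e ∈ H := (Subgroup.mem_inf.1 he).1
  have heN : e ∈ N(T) := (Subgroup.mem_inf.1 he).2
  have hTe : cj e T = T := mem_normalizer_iff_cj.1 heN
  by_cases hall : ∀ i, V i ≤ T
  · apply Ctrl.of_mem
    refine Subgroup.mem_inf.2 ⟨heH, ?_⟩
    apply mem_normalizer_of_conj_mem
    intro k hk
    have h1 : (⨆ i, V i) ≤ (⨆ i, V i).comap (MulAut.conj e).toMonoidHom := by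
      refine iSup_le fun i v hv => ?_
      obtain ⟨h, hh, hh'⟩ := hctl i T hTD e heH (by rw [hTe]; exact hTD)
      have e1 : e * v * e⁻¹ = h * v * h⁻¹ := hh' v (hall i hv)
      show e * v * e⁻¹ ∈ (⨆ i, V i)
      rw [e1]
      exact (le_iSup V i) ((Subgroup.mem_normalizer_iff.1 (Subgroup.mem_inf.1 hh).2 v).1 hv)
    exact h1 hk
  · rw [not_forall] at hall
    obtain ⟨i, hi⟩ := hall
    obtain ⟨v, hv, hvN, hvT⟩ := exists_mem_normalizer_not_mem hTD (hVD i) (hVn i) hDp hi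
    set E : Subgroup G := H ⊓ N(T) with hE
    set C₁ : Subgroup G := H ⊓ C(T) with hC₁
    set Y : Subgroup G := (V i ⊓ N(T)) ⊔ T with hY
    set F : Subgroup G := C₁ ⊔ Y with hF
    have hcn : C(T) ≤ N(T) := by
      intro c hc
      rw [Subgroup.mem_normalizer_iff]
      intro x
      have := Subgroup.mem_centralizer_iff.1 hc
      constructor
      · intro hx
        rw [← this x hx]
        simpa using hx
      · intro hx
        have h2 : c * x * c⁻¹ = x ∨ True := Or.inr trivial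
        have h3 := (Subgroup.mem_centralizer_iff.1 ((C(T)).inv_mem hc)) (c * x * c⁻¹) hx
        have h4 : x = c⁻¹ * (c * x * c⁻¹) * c := by group
        rw [h4, ← h3]
        simpa using hx
    have hC₁E : C₁ ≤ E := inf_le_inf_left _ hcn
    have hVH : V i ≤ H := (hVD i).trans hDH
    have hYE : Y ≤ E := by
      refine sup_le ?_ ?_
      · exact inf_le_inf_right _ hVH
      · exact le_inf (hTD.trans hDH) Subgroup.le_normalizer
    have hFE : F ≤ E := sup_le hC₁E hYE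
    have hC₁n : E ≤ N(C₁) := by
      intro x hx
      have hx' := Subgroup.mem_inf.1 hx
      exact normalizes_inf (Subgroup.le_normalizer hx'.1) (normalizes_centralizer hx'.2)
    have hYp : IsPGroup p Y := hDp.to_le (sup_le (inf_le_left.trans (hVD i)) hTD)
    have hFn : E ≤ N(F) := by
      intro x hx
      have hx' := Subgroup.mem_inf.1 hx
      obtain ⟨h, hh, hh'⟩ := hctl i T hTD x hx'.1 (by
        rw [mem_normalizer_iff_cj.1 hx'.2]
        exact hTD)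
      have hh1 := Subgroup.mem_inf.1 hh
      have hc : h⁻¹ * x ∈ C(T) := mem_cent_of_ctrl hh'
      have hcC : h⁻¹ * x ∈ C₁ := Subgroup.mem_inf.2 ⟨H.mul_mem (H.inv_mem hh1.1) hx'.1, hc⟩
      have hhN : h ∈ N(T) := by
        have e1 : h = x * (h⁻¹ * x)⁻¹ := by group
        rw [e1]
        exact Subgroup.mul_mem _ hx'.2 ((N(T)).inv_mem (hcn hc))
      have hhF : h ∈ N(F) := by
        refine normalizes_sup (hC₁n (Subgroup.mem_inf.2 ⟨hh1.1, hhN⟩)) ?_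
        exact normalizes_sup (normalizes_inf hh1.2 (normalizes_normalizer hhN)) hhN
      have e1 : x = h * (h⁻¹ * x) := by group
      rw [e1]
      exact Subgroup.mul_mem _ hhF (Subgroup.le_normalizer ((le_sup_left : C₁ ≤ F) hcC))
    have hQE : D ⊓ N(T) ≤ E := inf_le_inf_right _ hDH
    have hQp : IsPGroup p (D ⊓ N(T) : Subgroup G) := hDp.to_le inf_le_left
    obtain ⟨c, hc, e', he'E, heq, he'N⟩ := frattini_rel (p := p) hFE hFn (le_sup_left : C₁ ≤ F) hC₁n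
      (fun f hf => pow_mem_of_mem_sup (hYE.trans hC₁n) hYp hf) hQE hQp hFN e he
    have he'1 := Subgroup.mem_inf.1 he'E
    set σ : Subgroup G := F ⊓ (D ⊓ N(T)) with hσ
    have hTσ : T ≤ σ := le_inf ((le_sup_right : T ≤ Y).trans le_sup_right)
      (le_inf hTD Subgroup.le_normalizer)
    have hvσ : v ∈ σ := by
      refine Subgroup.mem_inf.2 ⟨?_, Subgroup.mem_inf.2 ⟨hVD i hv, hvN⟩⟩
      exact (le_sup_right : Y ≤ F) ((le_sup_left : V i ⊓ N(T) ≤ Y) (Subgroup.mem_inf.2 ⟨hv, hvN⟩))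
    have hlt : T < σ := lt_of_le_of_ne hTσ (fun h => hvT (by rw [h]; exact hvσ))
    have hσD : σ ≤ D := inf_le_right.trans inf_le_left
    have hCe' : Ctrl (H ⊓ N(⨆ i, V i)) T e' :=
      (IH σ hσD (card_lt_of_lt hlt) e' he'1.1 (by
        rw [mem_normalizer_iff_cj.1 he'N]
        exact hσD)).mono hTσ
    rw [heq]
    refine hCe'.cent fun t ht => ?_
    have h1 : e' * t * e'⁻¹ ∈ T := (Subgroup.mem_normalizer_iff.1 he'1.2 t).1 ht
    exact Subgroup.mem_centralizer_iff.1 (Subgroup.mem_inf.1 hc).2 _ h1 |>.symm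


omit [Finite G] [Fact p.Prime] in
lemma cent_le_norm (T : Subgroup G) : C(T) ≤ N(T) := by
  intro c hc
  rw [Subgroup.mem_normalizer_iff]
  intro x
  constructor
  · intro hx
    have e : c * x * c⁻¹ = x := by
      rw [← Subgroup.mem_centralizer_iff.1 hc x hx]
      group
    rw [e]
    exact hx
  · intro hx
    have e : c⁻¹ * (c * x * c⁻¹) * c⁻¹⁻¹ = c * x * c⁻¹ := by
      have h3 := (Subgroup.mem_centralizer_iff.1 ((C(T)).inv_mem hc)) (c * x * c⁻¹) hx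
      rw [← h3]
      group
    have h4 : x = c⁻¹ * (c * x * c⁻¹) * c := by group
    rw [h4]
    have h5 : c⁻¹ * (c * x * c⁻¹) * c = c * x * c⁻¹ := by simpa using e
    rw [h5]
    exact hx

/-- Chain stabilizers are `p`-elements: an element normalizing a `p`-group `T` and centralizing
`T ⊓ N₀`, with commutators `[T, z]` in `N₀`. -/
lemma pow_mem_cent_of_stab {T N₀ : Subgroup G} (hTp : IsPGroup p T) {z : G} (hzN : z ∈ N(T))
    (hz : z ∈ C(T ⊓ N₀)) (hzc : ∀ t ∈ T, z * t * z⁻¹ * t⁻¹ ∈ N₀) :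
    ∃ a : ℕ, z ^ p ^ a ∈ C(T) := by
  obtain ⟨a, ha⟩ := IsPGroup.iff_card.1 hTp
  refine ⟨a, ?_⟩
  rw [Subgroup.mem_centralizer_iff]
  intro t ht
  set u := z * t * z⁻¹ * t⁻¹ with hu
  have hut : u ∈ T := by
    have h1 : z * t * z⁻¹ ∈ T := (Subgroup.mem_normalizer_iff.1 hzN t).1 ht
    exact T.mul_mem h1 (T.inv_mem ht)
  have huN : u ∈ T ⊓ N₀ := Subgroup.mem_inf.2 ⟨hut, hzc t ht⟩
  have hzu : z * u = u * z := (Subgroup.mem_centralizer_iff.1 hz u huN).symm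
  have key : ∀ j : ℕ, z ^ j * t * (z ^ j)⁻¹ = u ^ j * t := by
    intro j
    induction j with
    | zero => simp
    | succ j ih =>
      have hc : Commute z (u ^ j) := (show Commute z u from hzu).pow_right j
      have e1 : z * t * z⁻¹ = u * t := by
        rw [hu]
        group
      calc z ^ (j + 1) * t * (z ^ (j + 1))⁻¹ = z * (z ^ j * t * (z ^ j)⁻¹) * z⁻¹ := by
            rw [pow_succ']
            group
        _ = z * (u ^ j * t) * z⁻¹ := by rw [ih]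
        _ = (z * u ^ j) * t * z⁻¹ := by group
        _ = (u ^ j * z) * t * z⁻¹ := by rw [hc.eq]
        _ = u ^ j * (z * t * z⁻¹) := by group
        _ = u ^ j * (u * t) := by rw [e1]
        _ = u ^ (j + 1) * t := by rw [pow_succ]; group
  have hu1 : u ^ p ^ a = 1 := by
    rw [← ha]
    have := pow_card_eq_one' (x := (⟨u, hut⟩ : T))
    exact congrArg Subtype.val this
  have h := key (p ^ a)
  rw [hu1, one_mul] at h
  rw [mul_inv_eq_iff_eq_mul] at h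
  exact h.symm

/-- Control of strong fusion lifts from a normal subgroup, relative to `H`. -/
theorem ctrl_normal {H N₀ P W : Subgroup G} (hNH : N₀ ≤ H) (hNn : H ≤ N(N₀)) (hPH : P ≤ H)
    (hPp : IsPGroup p P) (hPs : ¬ p ∣ P.relIndex H) (hWD : W ≤ P ⊓ N₀)
    (hWL : ∀ x ∈ H, x ∈ N(P ⊓ N₀) → x ∈ N(W))
    (hctl : ∀ A : Subgroup G, A ≤ P ⊓ N₀ → ∀ n ∈ N₀, cj n A ≤ P ⊓ N₀ → Ctrl (N₀ ⊓ N(W)) A n) :
    ∀ A : Subgroup G, A ≤ P → ∀ g ∈ H, cj g A ≤ P → Ctrl (H ⊓ N(W)) A g := by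
  refine ctrl_local_global hPH hPp hPs ?_
  intro T hTP hFN IH e he
  have heH : e ∈ H := (Subgroup.mem_inf.1 he).1
  have heN : e ∈ N(T) := (Subgroup.mem_inf.1 he).2
  have hPD : P ≤ N(P ⊓ N₀) := fun t ht =>
    normalizes_inf (Subgroup.le_normalizer ht) (hNn (hPH ht))
  have hPW : P ≤ N(W) := fun t ht => hWL t (hPH ht) (hPD ht)
  by_cases hDT : P ⊓ N₀ ≤ T
  · have hT₀ : T ⊓ N₀ = P ⊓ N₀ := le_antisymm (inf_le_inf_right _ hTP) (le_inf hDT inf_le_right)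
    have h1 : e ∈ N(P ⊓ N₀) := by
      rw [← hT₀]
      exact normalizes_inf heN (hNn heH)
    exact Ctrl.of_mem (Subgroup.mem_inf.2 ⟨heH, hWL e heH h1⟩)
  set E : Subgroup G := H ⊓ N(T) with hE
  set M : Subgroup G := N₀ ⊓ N(T) with hM
  set Q : Subgroup G := P ⊓ N(T) with hQ
  have hME : M ≤ E := inf_le_inf_right _ hNH
  have hMn : E ≤ N(M) := by
    intro x hx
    have hx' := Subgroup.mem_inf.1 hx
    exact normalizes_inf (hNn hx'.1) (normalizes_normalizer hx'.2)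
  have hQE : Q ≤ E := inf_le_inf_right _ hPH
  have hQp : IsPGroup p Q := hPp.to_le inf_le_left
  have hQs : ¬ p ∣ Q.relIndex E := hFN
  obtain ⟨m, hm, e', he'E, heq, he'N⟩ := frattini_rel (p := p) hME hMn le_rfl hMn
    (fun f hf => ⟨0, by simpa using hf⟩) hQE hQp hQs e he
  have he'1 := Subgroup.mem_inf.1 he'E
  obtain ⟨v, hv, hvN, hvT⟩ := exists_mem_normalizer_not_mem (V := P ⊓ N₀) hTP inf_le_left hPD hPp hDT
  have hv' := Subgroup.mem_inf.1 hv
  have hvMQ : v ∈ M ⊓ Q := Subgroup.mem_inf.2 ⟨Subgroup.mem_inf.2 ⟨hv'.2, hvN⟩,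
    Subgroup.mem_inf.2 ⟨hv'.1, hvN⟩⟩
  have hσ₁P : T ⊔ (M ⊓ Q) ≤ P := sup_le hTP (inf_le_right.trans inf_le_left)
  have hσ₁lt : T < T ⊔ (M ⊓ Q) := lt_of_le_of_ne le_sup_left (fun h => hvT (by
    rw [h]
    exact (le_sup_right : M ⊓ Q ≤ T ⊔ (M ⊓ Q)) hvMQ))
  have hCe' : Ctrl (H ⊓ N(W)) T e' :=
    (IH _ hσ₁P (card_lt_of_lt hσ₁lt) e' he'1.1 (by
      rw [mem_normalizer_iff_cj.1 (normalizes_sup he'1.2 he'N)]
      exact hσ₁P)).mono le_sup_left
  suffices hCm : ∀ m ∈ M, Ctrl (H ⊓ N(W)) T m by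
    rw [heq]
    exact hCe'.comp (by
      rw [mem_normalizer_iff_cj.1 he'1.2]
      exact hCm m hm)
  clear m hm e' he'E heq he'N he'1 hCe'
  intro m hm
  have hm' := Subgroup.mem_inf.1 hm
  set T₀ : Subgroup G := T ⊓ N₀ with hT₀
  have hT₀D : T₀ ≤ P ⊓ N₀ := inf_le_inf_right _ hTP
  have hTH : T ≤ H := hTP.trans hPH
  -- the decomposition of `N_{N₀}(T₀)`
  have hdec : ∀ x ∈ N₀, x ∈ N(T₀) → ∃ h ∈ N₀ ⊓ N(W), h ∈ N(T₀) ∧ h⁻¹ * x ∈ N₀ ⊓ C(T₀) := by
    intro x hx hxN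
    obtain ⟨h, hh, hh'⟩ := hctl T₀ hT₀D x hx (by
      rw [mem_normalizer_iff_cj.1 hxN]
      exact hT₀D)
    have hh1 := Subgroup.mem_inf.1 hh
    have hc : h⁻¹ * x ∈ C(T₀) := mem_cent_of_ctrl hh'
    refine ⟨h, hh, ?_, Subgroup.mem_inf.2 ⟨N₀.mul_mem (N₀.inv_mem hh1.1) hx, hc⟩⟩
    have e1 : h = x * (h⁻¹ * x)⁻¹ := by group
    rw [e1]
    exact Subgroup.mul_mem _ hxN ((N(T₀)).inv_mem (cent_le_norm _ hc))
  set X : Subgroup G := N₀ ⊓ N(T₀) with hX
  set C : Subgroup G := N₀ ⊓ C(T₀) with hC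
  have hCX : C ≤ X := inf_le_inf_left _ (cent_le_norm _)
  have hCn : X ≤ N(C) := by
    intro x hx
    have hx' := Subgroup.mem_inf.1 hx
    exact normalizes_inf (Subgroup.le_normalizer hx'.1) (normalizes_centralizer hx'.2)
  set Y₂ : Subgroup G := (W ⊓ N(T₀)) ⊔ T₀ with hY₂
  have hY₂D : Y₂ ≤ P ⊓ N₀ := sup_le (inf_le_left.trans hWD) hT₀D
  have hY₂p : IsPGroup p Y₂ := hPp.to_le (hY₂D.trans inf_le_left)
  have hY₂X : Y₂ ≤ X := by
    refine sup_le ?_ ?_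
    · exact inf_le_inf_right _ (hWD.trans inf_le_right)
    · exact le_inf inf_le_right Subgroup.le_normalizer
  set Y₀ : Subgroup G := C ⊔ Y₂ with hY₀
  have hXY₀ : X ≤ N(Y₀) := by
    intro x hx
    have hx' := Subgroup.mem_inf.1 hx
    obtain ⟨h, hh, hhN, hc⟩ := hdec x hx'.1 hx'.2
    have hh1 := Subgroup.mem_inf.1 hh
    have h1 : h ∈ N(Y₀) := by
      refine normalizes_sup (hCn (Subgroup.mem_inf.2 ⟨hh1.1, hhN⟩)) ?_
      exact normalizes_sup (normalizes_inf hh1.2 (normalizes_normalizer hhN)) hhN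
    have e1 : x = h * (h⁻¹ * x) := by group
    rw [e1]
    exact Subgroup.mul_mem _ h1 (Subgroup.le_normalizer ((le_sup_left : C ≤ Y₀) hc))
  have hMX : M ≤ X := by
    intro y hy
    have hy' := Subgroup.mem_inf.1 hy
    exact Subgroup.mem_inf.2 ⟨hy'.1, normalizes_inf hy'.2 (hNn (hNH hy'.1))⟩
  set M₂ : Subgroup G := M ⊓ Y₀ with hM₂
  have hM₂M : M₂ ≤ M := inf_le_left
  have hMM₂ : M ≤ N(M₂) := fun y hy =>
    normalizes_inf (Subgroup.le_normalizer hy) (hXY₀ (hMX hy))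
  set C₀ : Subgroup G := N₀ ⊓ C(T) with hC₀
  have hC₀C : C₀ ≤ C := inf_le_inf_left _ (Subgroup.centralizer_le inf_le_left)
  have hC₀M₂ : C₀ ≤ M₂ := le_inf (inf_le_inf_left _ (cent_le_norm _)) (hC₀C.trans le_sup_left)
  have hMC₀ : M ≤ N(C₀) := by
    intro y hy
    have hy' := Subgroup.mem_inf.1 hy
    exact normalizes_inf (hNn (hNH hy'.1)) (normalizes_centralizer hy'.2)
  have hFC : ∀ y ∈ M₂, ∃ k : ℕ, y ^ p ^ k ∈ C₀ := by
    intro y hy
    have hy' := Subgroup.mem_inf.1 hy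
    obtain ⟨k₁, hk₁⟩ := pow_mem_of_mem_sup (hY₂X.trans hCn) hY₂p hy'.2
    set z := y ^ p ^ k₁ with hz
    have hzM : z ∈ M := M.pow_mem hy'.1 _
    have hzM' := Subgroup.mem_inf.1 hzM
    have hzC := Subgroup.mem_inf.1 hk₁
    obtain ⟨a, ha⟩ := pow_mem_cent_of_stab (hPp.to_le hTP) hzM'.2 hzC.2 (by
      intro t ht
      have e1 : z * t * z⁻¹ * t⁻¹ = z * (t * z⁻¹ * t⁻¹) := by group
      rw [e1]
      refine N₀.mul_mem hzM'.1 ?_
      exact (Subgroup.mem_normalizer_iff.1 (hNn (hTH ht)) _).1 (N₀.inv_mem hzM'.1))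
    refine ⟨k₁ + a, ?_⟩
    rw [pow_add, pow_mul]
    exact Subgroup.mem_inf.2 ⟨N₀.pow_mem hzM'.1 _, ha⟩
  have hQ₂s : ¬ p ∣ (Q ⊓ M).relIndex M := not_dvd_inf_relIndex hME hMn hQE hQs
  obtain ⟨c, hc, m', hm'', heq₂, hm'N⟩ := frattini_rel (p := p) hM₂M hMM₂ hC₀M₂ hMC₀ hFC
    (inf_le_right : Q ⊓ M ≤ M) (hQp.to_le inf_le_left) hQ₂s m hm
  have hm''1 := Subgroup.mem_inf.1 hm''
  by_cases hM₃T : M₂ ⊓ (Q ⊓ M) ≤ T
  · have hWT : W ≤ T := by
      by_contra hne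
      obtain ⟨w, hw, hwN, hwT⟩ := exists_mem_normalizer_not_mem (V := W) hTP (hWD.trans inf_le_left)
        hPW hPp hne
      apply hwT
      apply hM₃T
      have hw' := Subgroup.mem_inf.1 (hWD hw)
      have hwM : w ∈ M := Subgroup.mem_inf.2 ⟨hw'.2, hwN⟩
      have hwT₀ : w ∈ N(T₀) := (Subgroup.mem_inf.1 (hMX hwM)).2
      have hwY : w ∈ Y₀ := (le_sup_right : Y₂ ≤ Y₀) ((le_sup_left : W ⊓ N(T₀) ≤ Y₂)
        (Subgroup.mem_inf.2 ⟨hw, hwT₀⟩))
      exact Subgroup.mem_inf.2 ⟨Subgroup.mem_inf.2 ⟨hwM, hwY⟩,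
        Subgroup.mem_inf.2 ⟨Subgroup.mem_inf.2 ⟨hw'.1, hwN⟩, hwM⟩⟩
    have hWT₀ : W ≤ T₀ := le_inf hWT (hWD.trans inf_le_right)
    have hmT₀ : m ∈ N(T₀) := (Subgroup.mem_inf.1 (hMX hm)).2
    have hmW : m ∈ N(W) := by
      apply mem_normalizer_of_conj_mem
      intro w hw
      obtain ⟨h, hh, hh'⟩ := hctl T₀ hT₀D m hm'.1 (by
        rw [mem_normalizer_iff_cj.1 hmT₀]
        exact hT₀D)
      rw [hh' w (hWT₀ hw)]
      exact (Subgroup.mem_normalizer_iff.1 (Subgroup.mem_inf.1 hh).2 w).1 hw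
    exact Ctrl.of_mem (Subgroup.mem_inf.2 ⟨hNH hm'.1, hmW⟩)
  · have hσP : T ⊔ (M₂ ⊓ (Q ⊓ M)) ≤ P :=
      sup_le hTP (inf_le_right.trans (inf_le_left.trans inf_le_left))
    have hσlt : T < T ⊔ (M₂ ⊓ (Q ⊓ M)) := by
      refine lt_of_le_of_ne le_sup_left (fun h => hM₃T ?_)
      exact le_sup_right.trans h.ge
    have hm'n : m' ∈ N(T ⊔ (M₂ ⊓ (Q ⊓ M))) := normalizes_sup hm''1.2 hm'N
    have hCm' : Ctrl (H ⊓ N(W)) T m' :=
      (IH _ hσP (card_lt_of_lt hσlt) m' (hNH hm''1.1) (by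
        rw [mem_normalizer_iff_cj.1 hm'n]
        exact hσP)).mono le_sup_left
    rw [heq₂]
    refine hCm'.cent fun t ht => ?_
    have h1 : m' * t * m'⁻¹ ∈ T := (Subgroup.mem_normalizer_iff.1 hm''1.2 t).1 ht
    exact (Subgroup.mem_centralizer_iff.1 (Subgroup.mem_inf.1 hc).2 _ h1).symm


/-- Control of strong fusion by the join of the conjugates of `V` under `N_H(P ⊓ N₀)`. -/
theorem lift_rel {H N₀ P V : Subgroup G} (hNH : N₀ ≤ H) (hNn : H ≤ N(N₀)) (hPH : P ≤ H)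
    (hPp : IsPGroup p P) (hPs : ¬ p ∣ P.relIndex H) (hV : V ≤ P ⊓ N₀) (hVn : P ⊓ N₀ ≤ N(V))
    (hctrl : ∀ A : Subgroup G, A ≤ P ⊓ N₀ → ∀ n ∈ N₀, cj n A ≤ P ⊓ N₀ → Ctrl (N₀ ⊓ N(V)) A n) :
    ∀ A : Subgroup G, A ≤ P → ∀ g ∈ H, cj g A ≤ P →
      Ctrl (H ⊓ N(⨆ x : {x : G // x ∈ H ⊓ N(P ⊓ N₀)}, cj (x : G) V)) A g := by
  set D : Subgroup G := P ⊓ N₀ with hD
  have hDp : IsPGroup p D := hPp.to_le inf_le_left
  have hDs : ¬ p ∣ D.relIndex N₀ := not_dvd_inf_relIndex hNH hNn hPH hPs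
  have hcjD : ∀ x : {x : G // x ∈ H ⊓ N(D)}, cj (x : G) D = D := fun x =>
    mem_normalizer_iff_cj.1 (Subgroup.mem_inf.1 x.2).2
  have hVD : ∀ x : {x : G // x ∈ H ⊓ N(D)}, cj (x : G) V ≤ D := fun x => by
    have := cj_mono (x : G) hV
    rwa [hcjD x] at this
  have hVN : ∀ x : {x : G // x ∈ H ⊓ N(D)}, D ≤ N(cj (x : G) V) := by
    intro x d hd
    rw [← cj_normalizer]
    have h1 : (x : G)⁻¹ * d * (x : G) ∈ D := by
      have h2 := (Subgroup.mem_normalizer_iff.1 ((N(D)).inv_mem (Subgroup.mem_inf.1 x.2).2) d).1 hd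
      simpa using h2
    rw [mem_cj]
    exact hVn h1
  have hctl : ∀ x : {x : G // x ∈ H ⊓ N(D)}, ∀ A : Subgroup G, A ≤ D → ∀ n ∈ N₀, cj n A ≤ D →
      Ctrl (N₀ ⊓ N(cj (x : G) V)) A n := by
    intro x A hA n hn hnA
    have hx := Subgroup.mem_inf.1 x.2
    have hxN : (x : G)⁻¹ * n * (x : G) ∈ N₀ := by
      have h2 := (Subgroup.mem_normalizer_iff.1 ((N(N₀)).inv_mem (hNn hx.1)) n).1 hn
      simpa using h2
    have hA' : cj (x : G)⁻¹ A ≤ D := by
      have := cj_mono (x : G)⁻¹ hA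
      rwa [mem_normalizer_iff_cj.1 ((N(D)).inv_mem hx.2)] at this
    have hnA' : cj ((x : G)⁻¹ * n * (x : G)) (cj (x : G)⁻¹ A) ≤ D := by
      have e1 : cj ((x : G)⁻¹ * n * (x : G)) (cj (x : G)⁻¹ A) = cj (x : G)⁻¹ (cj n A) := by
        rw [cj_cj, cj_cj]
        congr 1
        group
      rw [e1]
      have := cj_mono (x : G)⁻¹ hnA
      rwa [mem_normalizer_iff_cj.1 ((N(D)).inv_mem hx.2)] at this
    obtain ⟨h, hh, hh'⟩ := hctrl _ hA' _ hxN hnA'
    have hh1 := Subgroup.mem_inf.1 hh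
    refine ⟨(x : G) * h * (x : G)⁻¹, Subgroup.mem_inf.2 ⟨?_, ?_⟩, ?_⟩
    · exact (Subgroup.mem_normalizer_iff.1 (hNn hx.1) h).1 hh1.1
    · rw [← cj_normalizer]
      exact conj_mem_cj hh1.2
    · intro t ht
      have h3 := hh' _ (conj_mem_cj (g := (x : G)⁻¹) ht)
      have h4 : ((x : G)⁻¹ * n * (x : G)) * ((x : G)⁻¹ * t * (x : G)⁻¹⁻¹) * ((x : G)⁻¹ * n * (x : G))⁻¹ =
          h * ((x : G)⁻¹ * t * (x : G)⁻¹⁻¹) * h⁻¹ := h3
      calc n * t * n⁻¹ = (x : G) * (((x : G)⁻¹ * n * (x : G)) * ((x : G)⁻¹ * t * (x : G)⁻¹⁻¹) *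
            ((x : G)⁻¹ * n * (x : G))⁻¹) * (x : G)⁻¹ := by group
        _ = (x : G) * (h * ((x : G)⁻¹ * t * (x : G)⁻¹⁻¹) * h⁻¹) * (x : G)⁻¹ := by rw [h4]
        _ = _ := by group
  have hjoin := ctrl_join (p := p) (H := N₀) (D := D) inf_le_right hDp hDs
    (fun x : {x : G // x ∈ H ⊓ N(D)} => cj (x : G) V) hVD hVN hctl
  refine ctrl_normal (p := p) hNH hNn hPH hPp hPs (iSup_le hVD) ?_ hjoin
  intro x hxH hxN
  apply mem_normalizer_of_conj_mem
  intro k hk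
  have h1 : (⨆ y : {x : G // x ∈ H ⊓ N(D)}, cj (y : G) V) ≤
      (⨆ y : {x : G // x ∈ H ⊓ N(D)}, cj (y : G) V).comap (MulAut.conj x).toMonoidHom := by
    refine iSup_le fun y v hv => ?_
    have hy := Subgroup.mem_inf.1 y.2
    let y' : {x : G // x ∈ H ⊓ N(D)} :=
      ⟨x * y, Subgroup.mem_inf.2 ⟨H.mul_mem hxH hy.1, Subgroup.mul_mem _ hxN hy.2⟩⟩
    have h2 : (MulAut.conj x).toMonoidHom v ∈ cj (y' : G) V := by
      show (MulAut.conj x).toMonoidHom v ∈ cj (x * y) V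
      rw [← cj_cj]
      exact ⟨v, hv, rfl⟩
    exact (le_iSup (fun y : {x : G // x ∈ H ⊓ N(D)} => cj (y : G) V) y') h2
  exact h1 hk

/-- Statement S1954. -/
theorem s1954 (N₀ : Subgroup G) [hN : N₀.Normal] (P : Sylow p G) (V : Subgroup G)
    (hV : V ≤ (P : Subgroup G) ⊓ N₀)
    (hVn : ∀ x ∈ (P : Subgroup G) ⊓ N₀, V.map (MulAut.conj x).toMonoidHom = V)
    (hctrl : ∀ A : Subgroup G, A ≤ (P : Subgroup G) ⊓ N₀ → ∀ n ∈ N₀,
      A.map (MulAut.conj n).toMonoidHom ≤ (P : Subgroup G) ⊓ N₀ →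
      ∃ h ∈ N₀ ⊓ Subgroup.normalizer (V : Set G), ∃ c ∈ N₀ ⊓ Subgroup.centralizer (A : Set G),
        n = h * c)
    (W : Subgroup G)
    (hW : W = Subgroup.closure (⋃ x ∈ Subgroup.normalizer (((P : Subgroup G) ⊓ N₀ : Subgroup G) : Set G),
      ((V.map (MulAut.conj x).toMonoidHom : Subgroup G) : Set G))) :
    ∀ A : Subgroup G, A ≤ (P : Subgroup G) → ∀ g : G,
      A.map (MulAut.conj g).toMonoidHom ≤ (P : Subgroup G) →
        ∃ h ∈ Subgroup.normalizer (W : Set G), ∃ c ∈ Subgroup.centralizer (A : Set G), g = h * c := by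
  have hWeq : W = ⨆ x : {x : G // x ∈ (⊤ : Subgroup G) ⊓ N((P : Subgroup G) ⊓ N₀)}, cj (x : G) V := by
    rw [hW]
    apply le_antisymm
    · rw [Subgroup.closure_le]
      intro z hz
      simp only [Set.mem_iUnion] at hz
      obtain ⟨x, hx, hz⟩ := hz
      let x' : {x : G // x ∈ (⊤ : Subgroup G) ⊓ N((P : Subgroup G) ⊓ N₀)} :=
        ⟨x, Subgroup.mem_inf.2 ⟨Subgroup.mem_top _, hx⟩⟩
      exact (le_iSup (fun y : {x : G // x ∈ (⊤ : Subgroup G) ⊓ N((P : Subgroup G) ⊓ N₀)} =>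
        cj (y : G) V) x') hz
    · refine iSup_le fun x z hz => Subgroup.subset_closure ?_
      simp only [Set.mem_iUnion]
      exact ⟨x, (Subgroup.mem_inf.1 x.2).2, hz⟩
  intro A hA g hg
  have hmain := lift_rel (p := p) (H := ⊤) (N₀ := N₀) (P := (P : Subgroup G)) (V := V) le_top
    (by rw [Subgroup.normalizer_eq_top_iff.2 hN]) le_top P.isPGroup' (by
      rw [Subgroup.relIndex_top_right]
      exact P.not_dvd_index) hV (fun x hx => mem_normalizer_iff_cj.2 (hVn x hx)) (by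
      intro B hB n hn hnB
      obtain ⟨h, hh, c, hc, rfl⟩ := hctrl B hB n hn hnB
      refine ⟨h, hh, fun t ht => ?_⟩
      have h1 := Subgroup.mem_centralizer_iff.1 (Subgroup.mem_inf.1 hc).2 t ht
      calc h * c * t * (h * c)⁻¹ = h * (c * t * c⁻¹) * h⁻¹ := by group
        _ = h * t * h⁻¹ := by
          rw [← h1]
          group) A hA g (Subgroup.mem_top _) hg
  rw [← hWeq] at hmain
  obtain ⟨h, hh, hh'⟩ := hmain
  exact ⟨h, (Subgroup.mem_inf.1 hh).2, h⁻¹ * g, mem_cent_of_ctrl hh', by group⟩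


end Finite

end Cfsg.Agent.Lib.StrongSec.NormalCtl
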