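import Cfsg.Agent.Lib.PLocal.ThompsonAmb
import Cfsg.Agent.Lib.PLocal.ThompsonComplement
import Cfsg.Agent.Lib.TransferCtl.EngelInv
import Cfsg.Agent.Lib.QuadAct.Replacement

/-!
# Normal `p`-complement criteria in functor form from the reduced configuration

A reduced group `O_p(G) Q₀ P` has the Sylow subgroup as a maximal subgroup, and no element of the
Sylow subgroup outside `O_p(G)` acts on a chief factor inside `O_p(G)` as an Engel element with
`p - 1` commutators unless it acts trivially.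
-/

set_option autoImplicit false
set_option linter.unusedSectionVars false

namespace Cfsg.Agent.Lib.StrongSec.ReducedApps

open Subgroup Cfsg Finset
open scoped commutatorElement
open Cfsg.Agent.Lib.PLocal.ZJ Cfsg.Agent.Lib.PLocal.Stability Cfsg.Agent.Lib.Core.Basic
  Cfsg.Agent.Lib.Transfer.Basic Cfsg.Agent.Lib.PLocal.ThompsonReduction
  Cfsg.Agent.Lib.PLocal.ThompsonInduction Cfsg.Agent.Lib.PLocal.ThompsonFunctor
  Cfsg.Agent.Lib.PLocal.ThompsonAmb Cfsg.Agent.Lib.PLocal.ThompsonComplement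
  Cfsg.Agent.Lib.PLocal.QdSection

universe u

section Reduced

variable {G : Type u} [Group G] [Finite G] {p : ℕ} [Fact p.Prime] {P : Sylow p G} {Q₀ : Subgroup G}

/-- The Sylow subgroup of a reduced group is maximal. -/
theorem coatom (hr : Reduced p G P Q₀) : IsCoatom (P : Subgroup G) := by
  refine ⟨fun h => hr.top_ne h.symm, ?_⟩
  intro Y hY
  have hPY := hY.le
  rw [eq_top_iff]
  have hirr := hr.irred (Y ⊓ Q₀) inf_le_right (by
    rintro t ⟨htP, htN⟩
    rw [mem_normalizer_iff]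
    intro x
    have htN' := mem_normalizer_iff.1 htN x
    have htY : t ∈ Y := hPY htP
    constructor
    · rintro ⟨h1, h2⟩
      exact ⟨Y.mul_mem (Y.mul_mem htY h1) (Y.inv_mem htY), htN'.1 h2⟩
    · rintro ⟨h1, h2⟩
      refine ⟨?_, htN'.2 h2⟩
      have := Y.mul_mem (Y.mul_mem (Y.inv_mem htY) h1) htY
      simpa [mul_assoc] using this)
  rcases hirr with h | h
  · exfalso
    apply hY.not_ge
    intro y hy
    obtain ⟨x, hx, t, ht, rfl⟩ := exists_mul_of_reduced hr y
    have hxY : x ∈ Y := by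
      have := Y.mul_mem hy (Y.inv_mem (hPY ht))
      simpa using this
    have h0 : x ∈ Y ⊓ Q₀ := ⟨hxY, hx⟩
    rw [h, mem_bot] at h0
    subst h0
    simpa using ht
  · intro g _
    obtain ⟨x, hx, t, ht, rfl⟩ := exists_mul_of_reduced hr g
    exact Y.mul_mem (inf_eq_right.1 h hx) (hPY ht)

/-- The quotient by `O_p` of a reduced group has a normal `p`-complement. -/
theorem pc_quot (hr : Reduced p G P Q₀) : HasNormalPComplement p (G ⧸ pCore p G) := by
  classical
  haveI hLn : (pCore p G ⊔ Q₀).Normal := hr.normal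
  let f : G →* G ⧸ pCore p G := QuotientGroup.mk' (pCore p G)
  have hf : Function.Surjective f := QuotientGroup.mk'_surjective _
  have hker : ∀ t : G, f t = 1 ↔ t ∈ pCore p G := fun t => QuotientGroup.eq_one_iff t
  refine hasNormalPComplement_iff_exists.2 ⟨(pCore p G ⊔ Q₀).map f, Subgroup.Normal.map hLn f hf, ?_, ?_⟩
  · have heq : (pCore p G ⊔ Q₀).map f = Q₀.map f := by
      rw [Subgroup.map_sup]
      have : (pCore p G).map f = ⊥ := by
        rw [Subgroup.map_eq_bot_iff]
        intro t ht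
        exact (hker t).2 ht
      rw [this, bot_sup_eq]
    rw [heq]
    have h1 : Nat.card (Q₀.map f) ∣ Nat.card Q₀ := Subgroup.card_map_dvd Q₀ f
    exact Nat.Coprime.coprime_dvd_left h1 hr.coprime
  · intro z
    obtain ⟨z', rfl⟩ := QuotientGroup.mk'_surjective _ z
    obtain ⟨g, rfl⟩ := hf z'
    obtain ⟨k, hk⟩ := hr.quot g
    refine ⟨k, ?_⟩
    rw [← map_pow, ← map_pow, QuotientGroup.mk'_apply, QuotientGroup.eq_one_iff]
    exact ⟨_, hk, rfl⟩

end Reduced

section Transport

variable {A B : Type u} [Group A] [Group B] [Finite A] [Finite B] {p : ℕ} [Fact p.Prime]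

/-- `p`-constraint passes along an isomorphism. -/
lemma constr_equiv (e : A ≃* B)
    (h : centralizer (pCore p B : Set B) ≤ pCore p B) :
    centralizer (pCore p A : Set A) ≤ pCore p A := by
  intro x hx
  have hB := map_pCore_equiv (p := p) e
  have h1 : e x ∈ centralizer (pCore p B : Set B) := by
    rw [mem_centralizer_iff]
    intro y hy
    rw [← hB] at hy
    obtain ⟨a, ha, rfl⟩ := hy
    have := mem_centralizer_iff.1 hx a ha
    show e.toMonoidHom a * e x = e x * e.toMonoidHom a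
    show e a * e x = e x * e a
    rw [← map_mul, ← map_mul, this]
  have h2 := h h1
  rw [← hB] at h2
  obtain ⟨a, ha, hae⟩ := h2
  have : a = x := e.injective hae
  rwa [← this]

/-- The Sylow subgroup transported along the inverse of an isomorphism. -/
noncomputable abbrev sylowBack (e : A ≃* B) (P : Sylow p B) : Sylow p A :=
  P.mapSurjective (f := e.symm.toMonoidHom) e.symm.surjective

lemma coe_sylowBack (e : A ≃* B) (P : Sylow p B) :
    (sylowBack e P : Subgroup A) = (P : Subgroup B).map e.symm.toMonoidHom :=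
  Sylow.coe_mapSurjective _ _

lemma map_sylowBack (e : A ≃* B) (P : Sylow p B) :
    (sylowBack e P : Subgroup A).map e.toMonoidHom = (P : Subgroup B) := by
  rw [coe_sylowBack, Subgroup.map_map]
  convert Subgroup.map_id (P : Subgroup B)
  ext x
  simp

lemma map_inducedFunctor_equiv {W : ∀ (Q : Type u) [Group Q], Subgroup Q}
    (hW : IsCharPFunctor.{u} p W) (e : A ≃* B) (P : Sylow p B) :
    (inducedFunctor (G := A) W (sylowBack e P : Subgroup A)).map e.toMonoidHom =
      inducedFunctor (G := B) W (P : Subgroup B) := by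
  have hPF := pFunctor_induced (p := p) hW
  have h2 := hPF.map_eq e.toMonoidHom (sylowBack e P : Subgroup A) (sylowBack e P).isPGroup' (by
    rw [(MonoidHom.ker_eq_bot_iff _).2 e.injective, inf_bot_eq])
  refine h2.trans ?_
  congr 1
  exact map_sylowBack e P

lemma isCoatom_sylowBack (e : A ≃* B) (P : Sylow p B) (h : IsCoatom (P : Subgroup B)) :
    IsCoatom (sylowBack e P : Subgroup A) := by
  rw [coe_sylowBack]
  have h1 := (OrderIso.isCoatom_iff (MulEquiv.mapSubgroup e.symm) (P : Subgroup B)).2 h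
  exact h1

lemma pc_quot_equiv (e : A ≃* B) (h : HasNormalPComplement p (B ⧸ pCore p B)) :
    HasNormalPComplement p (A ⧸ pCore p A) :=
  hasNormalPComplement_of_mulEquiv
    (QuotientGroup.congr (pCore p B) (pCore p A) e.symm (map_pCore_equiv (p := p) e.symm)) h

end Transport

section Main

variable {p : ℕ} [Fact p.Prime]

/-- Statement S2005. -/
theorem pc_of_coatom_sections {G : Type u} [Group G] [Finite G]
    (W : ∀ (Q : Type u) [Group Q], Subgroup Q) (hW : IsCharPFunctor.{u} p W) (S : Sylow p G)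
    (hN : HasNormalPComplement p
      ↥(normalizer ((inducedFunctor (G := G) W (S : Subgroup G) : Subgroup G) : Set G)))
    (hloc : ∀ (K R : Subgroup G) [hR : (R.subgroupOf K).Normal],
      centralizer ((pCore p (↥K ⧸ R.subgroupOf K) : Subgroup (↥K ⧸ R.subgroupOf K)) :
        Set (↥K ⧸ R.subgroupOf K)) ≤ pCore p (↥K ⧸ R.subgroupOf K) →
      HasNormalPComplement p ((↥K ⧸ R.subgroupOf K) ⧸ pCore p (↥K ⧸ R.subgroupOf K)) →
      ∀ T : Sylow p (↥K ⧸ R.subgroupOf K), IsCoatom (T : Subgroup (↥K ⧸ R.subgroupOf K)) →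
        (inducedFunctor (G := (↥K ⧸ R.subgroupOf K)) W
          ((T : Subgroup (↥K ⧸ R.subgroupOf K)))).Normal) :
    HasNormalPComplement p G := by
  have hPF := pFunctor_induced (p := p) hW
  refine reduction_amb (thompsonHyp hPF lFunctor_normalizer)
    (fun (X : Type u) [Group X] => Cfsg.Involves X G) ?_ ?_ ?_ _ G S rfl ?_ hN
  · intro X _ H hX
    exact involves_trans (involves_of_surj (K := H) (MonoidHom.id H) Function.surjective_id) hX
  · intro X _ N _ hX
    refine involves_trans ?_ hX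
    exact involves_of_surj (K := ⊤) ((QuotientGroup.mk' N).comp (⊤ : Subgroup X).subtype) (by
      intro y
      obtain ⟨x, rfl⟩ := QuotientGroup.mk'_surjective N y
      exact ⟨⟨x, trivial⟩, rfl⟩)
  · intro X _ _ P Q₀ hA hyp hr
    obtain ⟨K, R, hR, ⟨e⟩⟩ := hA
    haveI := hR
    have hn := hloc K R (constr_equiv e hr.constr) (pc_quot_equiv e (pc_quot hr)) (sylowBack e P)
      (isCoatom_sylowBack e P (coatom hr))
    have hmap := map_inducedFunctor_equiv hW e P
    have hn' : (inducedFunctor (G := X) W (P : Subgroup X)).Normal := by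
      rw [← hmap]
      exact Subgroup.Normal.map hn _ e.surjective
    have htop := normalizer_eq_top_iff.2 hn'
    have hyp' : HasNormalPComplement p
        ↥(normalizer ((inducedFunctor (G := X) W (P : Subgroup X) : Subgroup X) : Set X)) := hyp
    rw [htop] at hyp'
    exact hr.not_pc_top hyp'
  · exact involves_of_surj (K := ⊤) (Subgroup.topEquiv (G := G)).toMonoidHom Subgroup.topEquiv.surjective

end Main

section Frobenius

/-- The Frobenius norm lemma: a group `A₀` on which `s` acts fixed-point-freely, acting on an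
elementary abelian `p`-group on which the norm of `s` vanishes, acts trivially. -/
theorem frob_norm {Γ B : Type*} [Group Γ] [CommGroup B] {p : ℕ} [Fact p.Prime]
    (hB : ∀ b : B, b ^ p = 1) (τ : Γ →* MulAut B) (A₀ : Subgroup Γ) [Finite A₀]
    (hco : (Nat.card A₀).Coprime p) (s : Γ)
    (hsA : ∀ i : ℕ, ∀ a ∈ A₀, s ^ i * a * (s ^ i)⁻¹ ∈ A₀)
    (hfix : ∀ i : ℕ, 0 < i → i < p → ∀ a ∈ A₀, s ^ i * a * (s ^ i)⁻¹ = a → a = 1)
    (hN : ∀ b : B, ∏ i ∈ range p, τ (s ^ i) b = 1) : ∀ c ∈ A₀, ∀ b : B, τ c b = b := by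
  classical
  have hp : p.Prime := Fact.out
  have := Fintype.ofFinite A₀
  let T : B →* B :=
    { toFun := fun y => ∏ c : A₀, τ (c : Γ) y
      map_one' := by simp
      map_mul' := by
        intro x y
        simp [Finset.prod_mul_distrib] }
  have hT : ∀ y, T y = ∏ c : A₀, τ (c : Γ) y := fun _ => rfl
  have hτmul : ∀ (x y : Γ) (b : B), τ (x * y) b = τ x (τ y b) := by
    intro x y b
    rw [map_mul]
    rfl
  have hTc : ∀ (c : A₀) (y : B), T (τ (c : Γ) y) = T y := by
    intro c y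
    rw [hT, hT]
    conv_rhs => rw [← Equiv.prod_comp (Equiv.mulRight c)]
    refine prod_congr rfl fun d _ => ?_
    rw [← hτmul]
    rfl
  let Φ : ℕ → A₀ → A₀ := fun i a =>
    ⟨(a : Γ) * (s ^ i * (a : Γ)⁻¹ * (s ^ i)⁻¹), A₀.mul_mem a.2 (hsA i _ (A₀.inv_mem a.2))⟩
  have hΦτ : ∀ (i : ℕ) (a : A₀) (b : B),
      τ (a : Γ) (τ (s ^ i) (τ (a : Γ)⁻¹ b)) = τ (Φ i a : Γ) (τ (s ^ i) b) := by
    intro i a b
    have e : (a : Γ) * s ^ i * (a : Γ)⁻¹ = (Φ i a : Γ) * s ^ i := by
      show _ = (a : Γ) * (s ^ i * (a : Γ)⁻¹ * (s ^ i)⁻¹) * s ^ i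
      group
    rw [← hτmul, ← hτmul, ← hτmul, e]
  have hΦbij : ∀ i : ℕ, 0 < i → i < p → Function.Bijective (Φ i) := by
    intro i h0 hi
    apply Finite.injective_iff_bijective.1
    intro a a' h
    have h1 : (a : Γ) * (s ^ i * (a : Γ)⁻¹ * (s ^ i)⁻¹) =
        (a' : Γ) * (s ^ i * (a' : Γ)⁻¹ * (s ^ i)⁻¹) := congrArg Subtype.val h
    have h2 : s ^ i * ((a' : Γ)⁻¹ * (a : Γ)) * (s ^ i)⁻¹ = (a' : Γ)⁻¹ * (a : Γ) := by
      have h3 : (a' : Γ)⁻¹ * (a : Γ) =
          (s ^ i * (a' : Γ)⁻¹ * (s ^ i)⁻¹) * (s ^ i * (a : Γ) * (s ^ i)⁻¹) := by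
        have h4 : (a' : Γ)⁻¹ * ((a : Γ) * (s ^ i * (a : Γ)⁻¹ * (s ^ i)⁻¹)) =
            s ^ i * (a' : Γ)⁻¹ * (s ^ i)⁻¹ := by
          rw [h1]
          group
        rw [← h4]
        group
      calc s ^ i * ((a' : Γ)⁻¹ * (a : Γ)) * (s ^ i)⁻¹
          = (s ^ i * (a' : Γ)⁻¹ * (s ^ i)⁻¹) * (s ^ i * (a : Γ) * (s ^ i)⁻¹) := by group
        _ = (a' : Γ)⁻¹ * (a : Γ) := h3.symm
    have h5 := hfix i h0 hi _ (A₀.mul_mem (A₀.inv_mem a'.2) a.2) h2
    apply Subtype.ext
    exact (inv_mul_eq_one.1 h5).symm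
  have hmain : ∀ b : B, T b = b ^ Nat.card A₀ := by
    intro b
    have h1 : ∀ a : A₀, ∏ i ∈ range p, τ (Φ i a : Γ) (τ (s ^ i) b) = 1 := by
      intro a
      have h3 := congrArg (τ (a : Γ)) (hN (τ (a : Γ)⁻¹ b))
      rw [map_prod, map_one] at h3
      rw [← h3]
      exact prod_congr rfl fun i _ => (hΦτ i a b).symm
    have h2 : ∏ a : A₀, ∏ i ∈ range p, τ (Φ i a : Γ) (τ (s ^ i) b) = 1 :=
      prod_eq_one fun a _ => h1 a
    rw [prod_comm] at h2
    obtain ⟨k, hk⟩ : ∃ k, p = k + 1 := ⟨p - 1, (Nat.sub_add_cancel hp.pos).symm⟩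
    rw [hk, prod_range_succ'] at h2
    have h0 : ∏ a : A₀, τ (Φ 0 a : Γ) (τ (s ^ 0) b) = b ^ Nat.card A₀ := by
      have h6 : ∀ a : A₀, τ (Φ 0 a : Γ) (τ (s ^ 0) b) = b := by
        intro a
        have h7 : (Φ 0 a : Γ) = 1 := by
          show (a : Γ) * (s ^ 0 * (a : Γ)⁻¹ * (s ^ 0)⁻¹) = 1
          simp
        rw [h7]
        simp
      rw [prod_congr rfl fun a _ => h6 a, prod_const, Finset.card_univ, Nat.card_eq_fintype_card]
    have hi : ∀ i ∈ range k, ∏ a : A₀, τ (Φ (i + 1) a : Γ) (τ (s ^ (i + 1)) b) =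
        T (τ (s ^ (i + 1)) b) := by
      intro i hi
      rw [hT]
      have hi' : i + 1 < p := by
        rw [hk]
        have := Finset.mem_range.1 hi
        omega
      exact Function.Bijective.prod_comp (hΦbij (i + 1) (Nat.succ_pos _) hi')
        (fun c : A₀ => τ (c : Γ) (τ (s ^ (i + 1)) b))
    rw [prod_congr rfl hi, h0, ← map_prod] at h2
    have h3 := hN b
    rw [hk, prod_range_succ'] at h3
    have h30 : τ (s ^ 0) b = b := by simp
    rw [h30] at h3
    have h4 : ∏ i ∈ range k, τ (s ^ (i + 1)) b = b⁻¹ := eq_inv_of_mul_eq_one_left h3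
    rw [h4, map_inv] at h2
    exact inv_mul_eq_one.1 h2
  intro c hc b
  have h1 : (τ c b) ^ Nat.card A₀ = b ^ Nat.card A₀ := by
    rw [← hmain, ← hmain]
    exact hTc ⟨c, hc⟩ b
  have h2 : (τ c b * b⁻¹) ^ Nat.card A₀ = 1 := by
    rw [mul_pow, h1, inv_pow, mul_inv_cancel]
  have h3 : (τ c b * b⁻¹) ^ p = 1 := hB _
  have h4 : orderOf (τ c b * b⁻¹) = 1 :=
    Nat.eq_one_of_dvd_coprimes hco (orderOf_dvd_of_pow_eq_one h2) (orderOf_dvd_of_pow_eq_one h3)
  exact mul_inv_eq_one.1 (orderOf_eq_one_iff.1 h4)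

end Frobenius

section NoEngel

variable {G : Type u} [Group G] [Finite G] {p : ℕ} [Fact p.Prime]

/-- Nilpotent action on a section. -/
lemma not_le_comm_sup {U V Y : Subgroup G} (hUn : U.Normal) (hVn : V.Normal) (hlt : V < U)
    (hUp : IsPGroup p U)
    (hY : ∀ y ∈ Y, ∃ k : ℕ, ∀ u ∈ U, (y ^ p ^ k) * u * (y ^ p ^ k)⁻¹ * u⁻¹ ∈ V) :
    ¬ U ≤ ⁅U, Y⁆ ⊔ V := by
  intro hle
  let π : G →* G ⧸ V := QuotientGroup.mk' V
  have hπ : Function.Surjective π := QuotientGroup.mk'_surjective V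
  have hπ1 : ∀ t, π t = 1 ↔ t ∈ V := fun t => QuotientGroup.eq_one_iff t
  have hVb : V.map π = ⊥ := by
    rw [Subgroup.map_eq_bot_iff]
    intro t ht
    exact (hπ1 t).2 ht
  have h1 : U.map π ≤ ⁅U.map π, Y.map π⁆ := by
    have h2 := Subgroup.map_mono (f := π) hle
    rw [Subgroup.map_sup, Subgroup.map_commutator, hVb, sup_bot_eq] at h2
    exact h2
  have hUbn : (U.map π).Normal := Subgroup.Normal.map hUn π hπ
  have hiter : ∀ n, U.map π ≤ iterCommutator (U.map π) (Y.map π) n := by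
    intro n
    induction n with
    | zero => exact le_rfl
    | succ n ih =>
      exact h1.trans (Subgroup.commutator_mono ih le_rfl)
  obtain ⟨n, hn⟩ := Cfsg.Agent.Lib.QuadAct.Replacement.exists_iterCommutator_eq_bot (p := p)
    (V := U.map π) (A := Y.map π) (hUp.map _)
    (by rw [Subgroup.normalizer_eq_top_iff.2 hUbn]; exact le_top) (by
      rintro _ ⟨y, hy, rfl⟩
      obtain ⟨k, hk⟩ := hY y hy
      refine ⟨k, ?_⟩
      rw [Subgroup.mem_centralizer_iff]
      rintro _ ⟨u, hu, rfl⟩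
      have h2 := (hπ1 _).2 (hk u hu)
      rw [map_mul, map_mul, map_mul, map_inv, map_inv, mul_inv_eq_one, mul_inv_eq_iff_eq_mul] at h2
      rw [← map_pow]
      exact h2.symm)
  have h3 := hiter n
  rw [hn] at h3
  apply hlt.not_ge
  intro u hu
  have h4 : π u ∈ U.map π := ⟨u, hu, rfl⟩
  have h5 := h3 h4
  rw [Subgroup.mem_bot] at h5
  exact (hπ1 u).1 h5

variable {P : Sylow p G} {Q₀ : Subgroup G}

/-- An element of the Sylow subgroup centralizing `Q₀` modulo `O_p` lies in `O_p`. -/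
lemma mem_core_of_centralizes (hr : Reduced p G P Q₀) {s : G} (hs : s ∈ (P : Subgroup G))
    (h : ∀ x ∈ Q₀, s * x * s⁻¹ * x⁻¹ ∈ pCore p G) : s ∈ pCore p G := by
  classical
  haveI hLn : (pCore p G ⊔ Q₀).Normal := hr.normal
  let f : G →* G ⧸ pCore p G := QuotientGroup.mk' (pCore p G)
  have hf : Function.Surjective f := QuotientGroup.mk'_surjective _
  have hker : ∀ t : G, f t = 1 ↔ t ∈ pCore p G := fun t => QuotientGroup.eq_one_iff t
  have hmapQ : (pCore p G ⊔ Q₀).map f = Q₀.map f := by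
    rw [Subgroup.map_sup]
    have : (pCore p G).map f = ⊥ := by
      rw [Subgroup.map_eq_bot_iff]
      intro t ht
      exact (hker t).2 ht
    rw [this, bot_sup_eq]
  have hQbn : (Q₀.map f).Normal := by
    rw [← hmapQ]
    exact Subgroup.Normal.map hLn f hf
  let C₂ : Subgroup G := (centralizer ((Q₀.map f : Subgroup _) : Set (G ⧸ pCore p G))).comap f
  have hC₂n : C₂.Normal := by
    haveI : (centralizer ((Q₀.map f : Subgroup _) : Set (G ⧸ pCore p G))).Normal := inferInstance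
    exact Subgroup.Normal.comap inferInstance f
  have hmemC : ∀ t : G, t ∈ C₂ ↔ ∀ x ∈ Q₀, t * x * t⁻¹ * x⁻¹ ∈ pCore p G := by
    intro t
    constructor
    · intro ht x hx
      have h1 := mem_centralizer_iff.1 ht (f x) ⟨x, hx, rfl⟩
      rw [← hker, map_mul, map_mul, map_mul, map_inv, map_inv, mul_inv_eq_one, mul_inv_eq_iff_eq_mul]
      exact h1.symm
    · intro ht
      rw [Subgroup.mem_comap, mem_centralizer_iff]
      rintro _ ⟨x, hx, rfl⟩
      have h1 := (hker _).2 (ht x hx)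
      rw [map_mul, map_mul, map_mul, map_inv, map_inv, mul_inv_eq_one, mul_inv_eq_iff_eq_mul] at h1
      exact h1.symm
  let M : Subgroup G := (P : Subgroup G) ⊓ C₂
  have hOC : pCore p G ≤ C₂ := by
    intro o ho
    rw [hmemC]
    intro x hx
    have e : o * x * o⁻¹ * x⁻¹ = o * (x * o⁻¹ * x⁻¹) := by group
    rw [e]
    have hn : (pCore p G).Normal := inferInstance
    exact mul_mem ho (hn.conj_mem _ (inv_mem ho) x)
  have hOM : pCore p G ≤ M := le_inf (pCore_le_sylow P) hOC
  have hMn : M.Normal := by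
    constructor
    intro m hm y
    obtain ⟨x, hx, t, ht, rfl⟩ := exists_mul_of_reduced hr y
    set m' := t * m * t⁻¹ with hm'
    have hm'P : m' ∈ (P : Subgroup G) := mul_mem (mul_mem ht hm.1) (inv_mem ht)
    have hm'C : m' ∈ C₂ := hC₂n.conj_mem _ hm.2 t
    have hm'M : m' ∈ M := ⟨hm'P, hm'C⟩
    have e : x * t * m * (x * t)⁻¹ = (x * m' * x⁻¹ * m'⁻¹) * m' := by
      rw [hm']
      group
    rw [e]
    refine M.mul_mem (hOM ?_) hm'M
    have h1 := (hmemC m'⁻¹).1 (inv_mem hm'C) x hx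
    have h2 : x * m' * x⁻¹ * m'⁻¹ = m' * (m'⁻¹ * x * m'⁻¹⁻¹ * x⁻¹) * m'⁻¹ := by
      group
    rw [h2]
    have hn : (pCore p G).Normal := inferInstance
    exact hn.conj_mem _ h1 m'
  have hMp : IsPGroup p M := P.isPGroup'.to_le inf_le_left
  exact le_pCore hMn hMp ⟨hs, (hmemC s).2 h⟩

/-- A reduced group has no chief factor inside `O_p` on which an element of the Sylow subgroup
outside `O_p` acts as an Engel element with `p - 1` commutators, unless it acts trivially. -/
theorem no_engel (hr : Reduced p G P Q₀) {g : G} (hg : g ∈ (P : Subgroup G)) (hgO : g ∉ pCore p G)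
    {U V : Subgroup G} (hch : IsChiefFactor U V) (hU : U ≤ pCore p G)
    (hE : iterCommutator U (zpowers g) (p - 1) ≤ V) (hne : ¬ ⁅U, zpowers g⁆ ≤ V) : False := by
  classical
  have hp : p.Prime := Fact.out
  haveI hLn : (pCore p G ⊔ Q₀).Normal := hr.normal
  obtain ⟨hUcomm, hUpow⟩ := Cfsg.Agent.Lib.TransferCtl.EngelNorm.chief_elementary hch hU
    (pCore_isPGroup : IsPGroup p (pCore p G))
  obtain ⟨hlt, hUn, hVn, hmin⟩ := hch
  have hUp : IsPGroup p U := (pCore_isPGroup : IsPGroup p (pCore p G)).to_le hU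
  -- `O_p` acts trivially
  have hOU : ⁅U, pCore p G⁆ ≤ V := by
    have hNn : (⁅U, pCore p G⁆ ⊔ V).Normal := by
      haveI := hUn
      haveI := hVn
      have hOn : (pCore p G).Normal := inferInstance
      exact Subgroup.sup_normal _ _
    have hle : ⁅U, pCore p G⁆ ≤ U := by
      haveI := hUn
      exact Subgroup.commutator_le_left _ _
    rcases hmin _ hNn le_sup_right (sup_le hle hlt.le) with h | h
    · rw [← h]
      exact le_sup_left
    · exfalso
      refine not_le_comm_sup (p := p) hUn hVn hlt hUp (Y := pCore p G) ?_ h.ge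
      intro y hy
      obtain ⟨k, hk⟩ := (pCore_isPGroup : IsPGroup p (pCore p G)) ⟨y, hy⟩
      refine ⟨k, fun u _ => ?_⟩
      have hk' : y ^ p ^ k = 1 := congrArg Subtype.val hk
      rw [hk']
      simp [V.one_mem]
  -- decomposition of `g`
  obtain ⟨q, hq, s, ⟨hsP, hsN⟩, hgs⟩ := hr.decomp g hg
  have hsO : s ∉ pCore p G := fun h => hgO (by rw [hgs]; exact mul_mem hq h)
  -- the quotient
  let π : G →* G ⧸ V := QuotientGroup.mk' V
  have hπ : Function.Surjective π := QuotientGroup.mk'_surjective V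
  have hπ1 : ∀ t, π t = 1 ↔ t ∈ V := fun t => QuotientGroup.eq_one_iff t
  let Ub : Subgroup (G ⧸ V) := U.map π
  haveI hUbn : Ub.Normal := Subgroup.Normal.map hUn π hπ
  have hUbc : ∀ x y : Ub, x * y = y * x := by
    rintro ⟨_, u, hu, rfl⟩ ⟨_, u', hu', rfl⟩
    apply Subtype.ext
    have h1 := (hπ1 _).2 (hUcomm u hu u' hu')
    rw [map_commutatorElement, commutatorElement_eq_one_iff_mul_comm] at h1
    exact h1
  have hUbp : ∀ x : Ub, x ^ p = 1 := by
    rintro ⟨_, u, hu, rfl⟩
    apply Subtype.ext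
    have h1 := (hπ1 _).2 (hUpow u hu)
    rw [map_pow] at h1
    exact h1
  letI instC : CommGroup Ub := { (inferInstance : Group Ub) with mul_comm := hUbc }
  let τ : G →* MulAut Ub := (MulAut.conjNormal (H := Ub)).comp π
  have hτ : ∀ (x u : G) (hu : u ∈ U), ((τ x ⟨π u, u, hu, rfl⟩ : Ub) : G ⧸ V) = π (x * u * x⁻¹) := by
    intro x u hu
    show (MulAut.conjNormal (H := Ub) (π x) ⟨π u, u, hu, rfl⟩ : G ⧸ V) = _
    rw [MulAut.conjNormal_apply]
    simp
  have hτ1 : ∀ x : G, (∀ u ∈ U, x * u * x⁻¹ * u⁻¹ ∈ V) → τ x = 1 := by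
    intro x hx
    ext ⟨_, u, hu, rfl⟩
    rw [hτ x u hu]
    have h1 := (hπ1 _).2 (hx u hu)
    rw [map_mul, map_inv, mul_inv_eq_one] at h1
    rw [h1]
    rfl
  have hτ1' : ∀ x : G, τ x = 1 → ∀ u ∈ U, x * u * x⁻¹ * u⁻¹ ∈ V := by
    intro x hx u hu
    have h1 := hτ x u hu
    rw [hx] at h1
    rw [← hπ1, map_mul, map_inv, mul_inv_eq_one, ← h1]
    rfl
  have hτq : ∀ o ∈ pCore p G, τ o = 1 := by
    intro o ho
    apply hτ1
    intro u hu
    have h1 : ⁅o, u⁆ ∈ ⁅U, pCore p G⁆ := by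
      rw [Subgroup.commutator_comm]
      exact Subgroup.commutator_mem_commutator ho hu
    exact hOU h1
  have hτs : τ s = τ g := by rw [hgs, map_mul, hτq q hq, one_mul]
  -- the commutator
  set Z : Subgroup G := zpowers s with hZ
  have hZN : Z ≤ normalizer (Q₀ : Set G) := (Subgroup.zpowers_le).2 hsN
  set A₀ : Subgroup G := ⁅Q₀, Z⁆ with hA₀
  have hA₀Q : A₀ ≤ Q₀ := Cfsg.Agent.Lib.QuadAct.Basic.commutator_le_of_le_normalizer hZN
  have hA₀cop : (Nat.card A₀).Coprime p :=
    Nat.Coprime.coprime_dvd_left (Subgroup.card_dvd_of_le hA₀Q) hr.coprime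
  have hsA : ∀ i : ℕ, ∀ a ∈ A₀, s ^ i * a * (s ^ i)⁻¹ ∈ A₀ := by
    intro i a ha
    have hx : s ^ i ∈ Z := Subgroup.npow_mem_zpowers s i
    have h1 : (MulAut.conj (s ^ i)).toMonoidHom a ∈ A₀.map (MulAut.conj (s ^ i)).toMonoidHom :=
      Subgroup.mem_map_of_mem _ ha
    have h2 : A₀.map (MulAut.conj (s ^ i)).toMonoidHom = A₀ := by
      rw [hA₀, Subgroup.map_commutator]
      have h3 : Q₀.map (MulAut.conj (s ^ i)).toMonoidHom = Q₀ :=
        Cfsg.Agent.Lib.ConjFam.Basic.mem_normalizer_iff_cj.1 (hZN hx)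
      have h4 : Z.map (MulAut.conj (s ^ i)).toMonoidHom = Z :=
        Cfsg.Agent.Lib.ConjFam.Basic.mem_normalizer_iff_cj.1 (Subgroup.le_normalizer hx)
      rw [h3, h4]
    rw [h2] at h1
    exact h1
  obtain ⟨k, hk⟩ : ∃ k, orderOf s = p ^ k := by
    obtain ⟨k, hk⟩ := P.isPGroup' ⟨s, hsP⟩
    have h1 : s ^ p ^ k = 1 := congrArg Subtype.val hk
    obtain ⟨j, -, hj⟩ := (Nat.dvd_prime_pow hp).1 (orderOf_dvd_of_pow_eq_one h1)
    exact ⟨j, hj⟩
  have hZcard : (Nat.card Z).Coprime (Nat.card Q₀) := by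
    rw [Nat.card_zpowers, hk]
    exact (Nat.Coprime.pow_left k hr.coprime.symm)
  have hfix : ∀ i : ℕ, 0 < i → i < p → ∀ a ∈ A₀, s ^ i * a * (s ^ i)⁻¹ = a → a = 1 := by
    intro i h0 hi a ha hfa
    have hco : Nat.Coprime i (orderOf s) := by
      rw [hk]
      apply Nat.Coprime.pow_right
      exact ((Nat.Prime.coprime_iff_not_dvd hp).2 (Nat.not_dvd_of_pos_of_lt h0 hi)).symm
    obtain ⟨m, hm⟩ := exists_pow_eq_self_of_coprime hco
    have hc : Commute (s ^ i) a := by
      rw [commute_iff_eq]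
      rw [mul_inv_eq_iff_eq_mul] at hfa
      exact hfa
    have hc2 : Commute s a := by
      have := hc.pow_left m
      rwa [hm] at this
    refine eq_one_of_fixed_of_mem_commutator (A := Q₀) (B := Z) hr.comm hZN hZcard ha ?_
    intro b hb
    obtain ⟨z, rfl⟩ := Subgroup.mem_zpowers_iff.1 hb
    have hc3 : Commute (s ^ z) a := hc2.zpow_left z
    rw [hc3.eq]
    group
  -- the norm
  have hN : ∀ b : Ub, ∏ i ∈ range p, τ (s ^ i) b = 1 := by
    rintro ⟨_, u, hu, rfl⟩
    let ψ : U →* Ub := π.subgroupMap U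
    have hmemU : ∀ i : ℕ, (g⁻¹ ^ i)⁻¹ * u * g⁻¹ ^ i ∈ U := by
      intro i
      have := hUn.conj_mem u hu (g ^ i)
      simpa using this
    have hE' : iterCommutator U (zpowers g⁻¹) (p - 1) ≤ V := by
      rwa [Subgroup.zpowers_inv]
    haveI := hUn
    haveI := hVn
    have h := Cfsg.Agent.Lib.TransferCtl.EngelNorm.engel_norm (X := U) (C := V) hUcomm hUpow hE' ψ
      (by
        intro c hc
        apply Subtype.ext
        exact (hπ1 _).2 hc)
      ⟨u, hu⟩ (fun i => ⟨_, hmemU i⟩) (fun i => rfl)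
    rw [← h]
    refine prod_congr rfl fun i _ => ?_
    apply Subtype.ext
    have h1 : τ (s ^ i) = τ (g ^ i) := by rw [map_pow, map_pow, hτs]
    rw [h1, hτ _ u hu]
    show π _ = π _
    congr 1
    simp
  have hfr := frob_norm (Γ := G) (B := Ub) (p := p) hUbp τ A₀ hA₀cop s hsA hfix hN
  have hA₀C : A₀ ≤ τ.ker := by
    intro c hc
    rw [MonoidHom.mem_ker]
    ext b
    rw [hfr c hc b]
    rfl
  have hkern : τ.ker.Normal := MonoidHom.normal_ker τ
  rcases hr.irred (Q₀ ⊓ τ.ker) inf_le_left (by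
    rintro t ⟨_, htN⟩
    rw [mem_normalizer_iff]
    intro x
    have htN' := mem_normalizer_iff.1 htN x
    constructor
    · rintro ⟨h1, h2⟩
      exact ⟨htN'.1 h1, hkern.conj_mem _ h2 t⟩
    · rintro ⟨h1, h2⟩
      refine ⟨htN'.2 h1, ?_⟩
      have := hkern.conj_mem _ h2 t⁻¹
      simpa [mul_assoc] using this) with h | h
  · -- `Q₀ ⊓ C = 1`
    apply hsO
    apply mem_core_of_centralizes hr hsP
    intro x hx
    have h1 : ⁅x, s⁆ ∈ A₀ := Subgroup.commutator_mem_commutator hx (Subgroup.mem_zpowers s)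
    have h2 : ⁅x, s⁆ ∈ Q₀ ⊓ τ.ker := ⟨hA₀Q h1, hA₀C h1⟩
    rw [h, Subgroup.mem_bot, commutatorElement_eq_one_iff_mul_comm] at h2
    have h3 : s * x * s⁻¹ * x⁻¹ = 1 := by
      rw [← h2]
      group
    rw [h3]
    exact one_mem _
  · -- `Q₀ ≤ C`
    have hQC : Q₀ ≤ τ.ker := inf_eq_left.1 h
    have hLC : pCore p G ⊔ Q₀ ≤ τ.ker := sup_le (fun o ho => hτq o ho) hQC
    haveI := hUn
    haveI := hVn
    have hNn : (⁅U, (⊤ : Subgroup G)⁆ ⊔ V).Normal := Subgroup.sup_normal _ _
    have hle : ⁅U, (⊤ : Subgroup G)⁆ ≤ U := Subgroup.commutator_le_left _ _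
    rcases hmin _ hNn le_sup_right (sup_le hle hlt.le) with h' | h'
    · apply hne
      have h1 : ⁅U, (⊤ : Subgroup G)⁆ ≤ V := le_sup_left.trans h'.le
      exact (Subgroup.commutator_mono le_rfl le_top).trans h1
    · refine not_le_comm_sup (p := p) hUn hVn hlt hUp (Y := ⊤) ?_ h'.ge
      intro y _
      obtain ⟨k', hk'⟩ := hr.quot y
      refine ⟨k', fun u hu => ?_⟩
      exact hτ1' _ (hLC hk') u hu

end NoEngel

section EngelMain

variable {p : ℕ} [Fact p.Prime]

lemma map_iterCommutator' {A B : Type*} [Group A] [Group B] (f : A →* B) (X U : Subgroup A) (k : ℕ) :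
    (iterCommutator X U k).map f = iterCommutator (X.map f) (U.map f) k := by
  induction k with
  | zero => rfl
  | succ k ih =>
    show (⁅iterCommutator X U k, U⁆ : Subgroup A).map f = ⁅iterCommutator (X.map f) (U.map f) k, U.map f⁆
    rw [Subgroup.map_commutator, ih]

lemma chief_map {A B : Type*} [Group A] [Group B] (e : A ≃* B) {U V : Subgroup A}
    (h : IsChiefFactor U V) : IsChiefFactor (U.map e.toMonoidHom) (V.map e.toMonoidHom) := by
  obtain ⟨hlt, hU, hV, hmin⟩ := h
  have hinj : Function.Injective e.toMonoidHom := e.injective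
  refine ⟨?_, Subgroup.Normal.map hU _ e.surjective, Subgroup.Normal.map hV _ e.surjective, ?_⟩
  · exact (Subgroup.map_lt_map_iff_of_injective hinj).2 hlt
  · intro N hN h1 h2
    have hc : (N.comap e.toMonoidHom).map e.toMonoidHom = N :=
      Subgroup.map_comap_eq_self_of_surjective e.surjective N
    rcases hmin (N.comap e.toMonoidHom) (Subgroup.Normal.comap hN _)
      (by
        rw [← Subgroup.map_le_iff_le_comap]
        exact h1)
      (by
        rw [← Subgroup.map_le_map_iff_of_injective hinj, hc]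
        exact h2) with h | h
    · left
      rw [← hc, h]
    · right
      rw [← hc, h]

/-- Statement S2006. -/
theorem pc_of_engel_sections {G : Type u} [Group G] [Finite G]
    (W : ∀ (Q : Type u) [Group Q], Subgroup Q) (hW : IsCharPFunctor.{u} p W) (S : Sylow p G)
    (hN : HasNormalPComplement p
      ↥(normalizer ((inducedFunctor (G := G) W (S : Subgroup G) : Subgroup G) : Set G)))
    (hloc : ∀ (K R : Subgroup G) [hR : (R.subgroupOf K).Normal],
      centralizer ((pCore p (↥K ⧸ R.subgroupOf K) : Subgroup (↥K ⧸ R.subgroupOf K)) :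
        Set (↥K ⧸ R.subgroupOf K)) ≤ pCore p (↥K ⧸ R.subgroupOf K) →
      ∀ T : Sylow p (↥K ⧸ R.subgroupOf K),
        ¬ (inducedFunctor (G := (↥K ⧸ R.subgroupOf K)) W
          ((T : Subgroup (↥K ⧸ R.subgroupOf K)))).Normal →
        ∃ g : (↥K ⧸ R.subgroupOf K), g ∈ (T : Subgroup (↥K ⧸ R.subgroupOf K)) ∧
          g ∉ pCore p (↥K ⧸ R.subgroupOf K) ∧
          ∃ U V : Subgroup (↥K ⧸ R.subgroupOf K), IsChiefFactor U V ∧
            U ≤ pCore p (↥K ⧸ R.subgroupOf K) ∧
            iterCommutator U (zpowers g) (p - 1) ≤ V ∧ ¬ ⁅U, zpowers g⁆ ≤ V) :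
    HasNormalPComplement p G := by
  have hPF := pFunctor_induced (p := p) hW
  refine reduction_amb (thompsonHyp hPF lFunctor_normalizer)
    (fun (X : Type u) [Group X] => Cfsg.Involves X G) ?_ ?_ ?_ _ G S rfl ?_ hN
  · intro X _ H hX
    exact involves_trans (involves_of_surj (K := H) (MonoidHom.id H) Function.surjective_id) hX
  · intro X _ N _ hX
    refine involves_trans ?_ hX
    exact involves_of_surj (K := ⊤) ((QuotientGroup.mk' N).comp (⊤ : Subgroup X).subtype) (by
      intro y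
      obtain ⟨x, rfl⟩ := QuotientGroup.mk'_surjective N y
      exact ⟨⟨x, trivial⟩, rfl⟩)
  · intro X _ _ P Q₀ hA hyp hr
    obtain ⟨K, R, hR, ⟨e⟩⟩ := hA
    haveI := hR
    have hmap := map_inducedFunctor_equiv hW e P
    have hinj : Function.Injective e.toMonoidHom := e.injective
    by_cases hn : (inducedFunctor (G := (↥K ⧸ R.subgroupOf K)) W
        ((sylowBack e P : Subgroup (↥K ⧸ R.subgroupOf K)))).Normal
    · have hn' : (inducedFunctor (G := X) W (P : Subgroup X)).Normal := by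
        rw [← hmap]
        exact Subgroup.Normal.map hn _ e.surjective
      have htop := normalizer_eq_top_iff.2 hn'
      have hyp' : HasNormalPComplement p
          ↥(normalizer ((inducedFunctor (G := X) W (P : Subgroup X) : Subgroup X) : Set X)) := hyp
      rw [htop] at hyp'
      exact hr.not_pc_top hyp'
    · obtain ⟨g, hgT, hgO, U, V, hch, hU, hE, hne⟩ := hloc K R (constr_equiv e hr.constr) _ hn
      have hcore := map_pCore_equiv (p := p) e
      refine no_engel hr (g := e g) (U := U.map e.toMonoidHom) (V := V.map e.toMonoidHom) ?_ ?_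
        (chief_map e hch) ?_ ?_ ?_
      · rw [← map_sylowBack e P]
        exact ⟨g, hgT, rfl⟩
      · rw [← hcore]
        rintro ⟨a, ha, hae⟩
        have : a = g := e.injective hae
        exact hgO (this ▸ ha)
      · rw [← hcore]
        exact Subgroup.map_mono hU
      · have h1 : zpowers (e g) = (zpowers g).map e.toMonoidHom := by
          rw [MonoidHom.map_zpowers]
          rfl
        rw [h1, ← map_iterCommutator']
        exact Subgroup.map_mono hE
      · have h1 : zpowers (e g) = (zpowers g).map e.toMonoidHom := by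
          rw [MonoidHom.map_zpowers]
          rfl
        rw [h1, ← Subgroup.map_commutator, Subgroup.map_le_map_iff_of_injective hinj]
        exact hne
  · exact involves_of_surj (K := ⊤) (Subgroup.topEquiv (G := G)).toMonoidHom Subgroup.topEquiv.surjective

end EngelMain

end Cfsg.Agent.Lib.StrongSec.ReducedApps
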