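import Cfsg.Agent.Lib.StrongSec.KInf
import Cfsg.Agent.Lib.PLocal.ThompsonFunctor

/-!
# Normal `p`-complement theorems in functor form

The reduction of `ThompsonInduction` for `p`-group functors; stability in groups with an abelian
`p'`-part.
-/

set_option autoImplicit false

namespace Cfsg.Agent.Lib.StrongSec.Thompson

open Cfsg Cfsg.Agent.Lib.TransferCtl.Basic Cfsg.Agent.Lib.StrongSec.KInf
  Cfsg.Agent.Lib.PLocal.ThompsonReduction Cfsg.Agent.Lib.PLocal.ThompsonInduction
  Cfsg.Agent.Lib.PLocal.ThompsonFunctor Cfsg.Agent.Lib.Core.Basic Cfsg.Agent.Lib.Transfer.Basic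
open scoped commutatorElement

universe u

variable {p : ℕ} [Fact p.Prime]

/-- A `p`-group functor gives a `PFunctor`. -/
theorem pFunctor_of_char {W : ∀ (Q : Type u) [Group Q], Subgroup Q} (hW : IsCharPFunctor.{u} p W) :
    PFunctor p (fun {X : Type u} [Group X] (T : Subgroup X) => inducedFunctor (G := X) W T) where
  map_eq := by
    intro X Y _ _ _ _ f T hT hker
    refine inducedFunctor_map hW f T hT ?_
    intro a b hab
    have h1 : (a * b⁻¹ : ↥T) = 1 := by
      have h2 : ((a * b⁻¹ : ↥T) : X) ∈ T ⊓ f.ker := by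
        refine ⟨(a * b⁻¹).2, ?_⟩
        refine MonoidHom.mem_ker.2 ?_
        have : f a = f b := hab
        simp [map_mul, this]
      rw [hker, Subgroup.mem_bot] at h2
      exact Subtype.ext h2
    exact mul_inv_eq_one.1 h1
  le := fun T => inducedFunctor_le T
  ne_bot := by
    intro X _ _ T hT hb
    exact (inducedFunctor_isConjugacyFunctor hW T hT).2.1 hb

/-- The shape of a group with a normal `p`-subgroup `O`, a normal subgroup `L ≥ O`, with `L / O` abelian of
order prime to `p` and `X / L` a `p`-group. -/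
structure AC (p : ℕ) {X : Type*} [Group X] (O L : Subgroup X) : Prop where
  hO : O.Normal
  hL : L.Normal
  hOL : O ≤ L
  hOp : IsPGroup p O
  comm : ∀ x ∈ L, ∀ y ∈ L, ⁅x, y⁆ ∈ O
  cop : ∀ x ∈ L, ∃ m : ℕ, m.Coprime p ∧ x ^ m ∈ O
  quot : ∀ g : X, ∃ k : ℕ, g ^ p ^ k ∈ L

section AC

variable {X Y : Type*} [Group X] [Group Y] {O L : Subgroup X}

lemma AC.map (h : AC p O L) (f : X →* Y) (hf : Function.Surjective f) : AC p (O.map f) (L.map f) where
  hO := h.hO.map f hf
  hL := h.hL.map f hf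
  hOL := Subgroup.map_mono h.hOL
  hOp := h.hOp.map f
  comm := by
    rintro _ ⟨x, hx, rfl⟩ _ ⟨y, hy, rfl⟩
    rw [← map_commutatorElement]
    exact ⟨_, h.comm x hx y hy, rfl⟩
  cop := by
    rintro _ ⟨x, hx, rfl⟩
    obtain ⟨m, hm, hx'⟩ := h.cop x hx
    exact ⟨m, hm, ⟨_, hx', map_pow f x m⟩⟩
  quot := by
    intro y
    obtain ⟨x, rfl⟩ := hf y
    obtain ⟨k, hk⟩ := h.quot x
    exact ⟨k, ⟨_, hk, map_pow f x _⟩⟩

lemma AC.sub (h : AC p O L) (H : Subgroup X) : AC p (O.subgroupOf H) (L.subgroupOf H) where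
  hO := by
    have := h.hO
    infer_instance
  hL := by
    have := h.hL
    infer_instance
  hOL := fun _ hx => h.hOL hx
  hOp := h.hOp.comap_subtype
  comm := by
    intro x hx y hy
    rw [Subgroup.mem_subgroupOf] at hx hy ⊢
    exact h.comm _ hx _ hy
  cop := by
    intro x hx
    rw [Subgroup.mem_subgroupOf] at hx
    obtain ⟨m, hm, hx'⟩ := h.cop _ hx
    exact ⟨m, hm, by rw [Subgroup.mem_subgroupOf]; exact hx'⟩
  quot := by
    intro g
    obtain ⟨k, hk⟩ := h.quot g
    exact ⟨k, by rw [Subgroup.mem_subgroupOf]; exact hk⟩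

end AC

section Stable

variable {X : Type*} [Group X] [Finite X] {O L : Subgroup X}

/-- An abelian `p'`-complement. -/
theorem AC.exists_complement (h : AC p O L) :
    ∃ Q₀ : Subgroup X, (∀ x ∈ Q₀, ∀ y ∈ Q₀, x * y = y * x) ∧ (Nat.card Q₀).Coprime p ∧
      (pCore p X ⊔ Q₀) = pCore p X ⊔ L := by
  classical
  have hp : p.Prime := Fact.out
  have hOL' := h.hOL
  have hNn : (O.subgroupOf L).Normal := by
    have := h.hO
    infer_instance
  have hNp : IsPGroup p (O.subgroupOf L) := h.hOp.comap_subtype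
  have h1 : (Nat.card (↥L ⧸ O.subgroupOf L)).Coprime p := by
    rw [Nat.coprime_comm, hp.coprime_iff_not_dvd]
    intro hd
    obtain ⟨z, hz⟩ := exists_prime_orderOf_dvd_card' p hd
    obtain ⟨x, rfl⟩ := QuotientGroup.mk'_surjective _ z
    obtain ⟨m, hm, hxm⟩ := h.cop x x.2
    have h2 : (QuotientGroup.mk' (O.subgroupOf L) x) ^ m = 1 := by
      rw [← map_pow]
      refine (QuotientGroup.eq_one_iff _).2 ?_
      rw [Subgroup.mem_subgroupOf]
      simpa using hxm
    have h3 := orderOf_dvd_of_pow_eq_one h2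
    rw [hz] at h3
    exact (Nat.Prime.coprime_iff_not_dvd hp).1 hm.symm h3
  have h1' : ((O.subgroupOf L).index).Coprime p := h1
  have hidx : Nat.Coprime (Nat.card (O.subgroupOf L)) (O.subgroupOf L).index := by
    obtain ⟨k, hk⟩ := IsPGroup.iff_card.1 hNp
    rw [hk]
    exact (Nat.Coprime.pow_right k h1').symm
  obtain ⟨H, hH⟩ := Subgroup.exists_right_complement'_of_coprime hidx
  have hHcop : (Nat.card H).Coprime p := by
    have e : Nat.card H = (O.subgroupOf L).index := by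
      have := hH.card_mul_card
      have h4 := (O.subgroupOf L).card_mul_index
      have h5 : 0 < Nat.card (O.subgroupOf L) := Nat.card_pos
      exact Nat.eq_of_mul_eq_mul_left h5 (this.trans h4.symm)
    rw [e]
    exact h1'
  have hcardQ : Nat.card (H.map L.subtype) = Nat.card H :=
    Subgroup.card_map_of_injective L.subtype_injective
  have hinf : O ⊓ H.map L.subtype = ⊥ := by
    apply inf_eq_bot_of_isPGroup_of_coprime h.hOp
    rw [hcardQ]
    exact hHcop
  have hQL : H.map L.subtype ≤ L := Subgroup.map_subtype_le _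
  refine ⟨H.map L.subtype, ?_, by rw [hcardQ]; exact hHcop, ?_⟩
  · intro x hx y hy
    have h2 : ⁅x, y⁆ ∈ O ⊓ H.map L.subtype := by
      refine ⟨h.comm x (hQL hx) y (hQL hy), ?_⟩
      show ⁅x, y⁆ ∈ H.map L.subtype
      rw [commutatorElement_def]
      exact mul_mem (mul_mem (mul_mem hx hy) (inv_mem hx)) (inv_mem hy)
    rw [hinf, Subgroup.mem_bot] at h2
    exact commutatorElement_eq_one_iff_mul_comm.1 h2
  · have hOc : O ≤ pCore p X := le_pCore h.hO h.hOp
    refine le_antisymm (sup_le_sup_left hQL _) (sup_le le_sup_left ?_)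
    intro l hl
    have hl' : (⟨l, hl⟩ : ↥L) ∈ O.subgroupOf L ⊔ H := by
      rw [hH.sup_eq_top]
      trivial
    obtain ⟨o, ho, q, hq, he⟩ := Subgroup.mem_sup_of_normal_left.1 hl'
    have he' : (o : X) * (q : X) = l := congrArg Subtype.val he
    rw [← he']
    exact mul_mem (le_sup_left (a := pCore p X) (hOc (Subgroup.mem_subgroupOf.1 ho)))
      (le_sup_right (a := pCore p X) ⟨q, hq, rfl⟩)

theorem AC.stable_aux (hp : p ≠ 2) (h : AC p O L) (S : Sylow p X) (R : Subgroup X) [hRn : R.Normal]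
    (hRU : R ≤ pCore p X) (a : X) (ha : a ∈ (S : Subgroup X))
    (hq : ⁅⁅R, Subgroup.zpowers a⁆, Subgroup.zpowers a⁆ = ⊥) :
    (QuotientGroup.mk a : X ⧸ Subgroup.centralizer (R : Set X)) ∈
      pCore p (X ⧸ Subgroup.centralizer (R : Set X)) := by
  obtain ⟨Q₀, h1, h2, h3⟩ := h.exists_complement
  have hLn := h.hL
  refine Cfsg.Agent.Lib.PLocal.Stability.stable_of_abelian_complement hp h1 h2 ?_ ?_ S R hRU a ha hq
  · rw [h3]
    infer_instance
  · intro g
    obtain ⟨k, hk⟩ := h.quot g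
    refine ⟨k, ?_⟩
    rw [h3]
    exact le_sup_right (a := pCore p X) hk

/-- Groups of the form `AC` are `p`-stable. -/
theorem AC.stable (hp : p ≠ 2) (h : AC p O L) : IsNormalizerPStable p X := by
  classical
  refine stable_of_extract ?_
  intro P hP g hg hq
  set N := Subgroup.normalizer (P : Set X) with hN
  let g' : ↥N := ⟨g, hg⟩
  obtain ⟨a, b, hab, -, ha, hb, ⟨k, hk⟩, hbc⟩ := exists_pPart_decomp (p := p) g'
  let P' : Subgroup ↥N := P.subgroupOf N
  have hP'n : P'.Normal := Subgroup.normal_in_normalizer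
  have hP'p : IsPGroup p P' := hP.comap_subtype
  have hP'c : P' ≤ pCore p ↥N := le_pCore hP'n hP'p
  have hmapg : (Subgroup.zpowers g').map N.subtype = Subgroup.zpowers g := by
    rw [MonoidHom.map_zpowers]
    rfl
  have hmapP : P'.map N.subtype ≤ P := Subgroup.map_subtype_le_map_subtype.2 le_rfl |>.trans (by
    rintro _ ⟨x, hx, rfl⟩
    exact Subgroup.mem_subgroupOf.1 hx)
  have hq' : ⁅⁅P', Subgroup.zpowers g'⁆, Subgroup.zpowers g'⁆ = ⊥ := by
    apply (Subgroup.map_eq_bot_iff_of_injective _ N.subtype_injective).1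
    rw [Subgroup.map_commutator, Subgroup.map_commutator, hmapg, eq_bot_iff, ← hq]
    exact Subgroup.commutator_mono (Subgroup.commutator_mono hmapP le_rfl) le_rfl
  have hqa : ⁅⁅P', Subgroup.zpowers a⁆, Subgroup.zpowers a⁆ = ⊥ := by
    rw [eq_bot_iff, ← hq']
    have hle : Subgroup.zpowers a ≤ Subgroup.zpowers g' := Subgroup.zpowers_le.2 ha
    exact Subgroup.commutator_mono (Subgroup.commutator_mono le_rfl hle) hle
  have hpa : IsPGroup p (Subgroup.zpowers a) := Cfsg.Agent.Lib.KInf.Stable.isPGroup_zpowers hk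
  obtain ⟨S, hS⟩ := hpa.exists_le_sylow
  have h1 := (h.sub N).stable_aux hp S P' hP'c a (hS (Subgroup.mem_zpowers a)) hqa
  -- `b` centralizes `P'`
  have hbC : b ∈ Subgroup.centralizer (P' : Set ↥N) := by
    refine Subgroup.mem_centralizer_iff.2 ?_
    intro r hr
    have hcr : ⁅r, b⁆ ∈ P' := by
      have e : ⁅r, b⁆ = r * (b * r⁻¹ * b⁻¹) := by rw [commutatorElement_def]; group
      rw [e]
      exact mul_mem hr (hP'n.conj_mem _ (inv_mem hr) b)
    have hqb : ⁅⁅r, b⁆, b⁆ = 1 := by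
      have h2 : ⁅⁅r, b⁆, b⁆ ∈ ⁅⁅P', Subgroup.zpowers g'⁆, Subgroup.zpowers g'⁆ :=
        Subgroup.commutator_mem_commutator (Subgroup.commutator_mem_commutator hr hb) hb
      rwa [hq', Subgroup.mem_bot] at h2
    have hcy : ⁅r, b⁆ * b = b * ⁅r, b⁆ := commutatorElement_eq_one_iff_mul_comm.1 hqb
    obtain ⟨t, ht⟩ := hP'p ⟨_, hcr⟩
    have ht' : ⁅r, b⁆ ^ p ^ t = 1 := congrArg Subtype.val ht
    have h3 := Cfsg.Agent.Lib.KInf.Stable.comm_eq_one_of_coprime hcy (pow_orderOf_eq_one b) ht' hbc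
    exact commutatorElement_eq_one_iff_mul_comm.1 h3
  let ψ : ↥N →* ↥N ⧸ Subgroup.centralizer (P' : Set ↥N) := QuotientGroup.mk' _
  have hDn : ((pCore p (↥N ⧸ Subgroup.centralizer (P' : Set ↥N))).comap ψ).Normal :=
    Subgroup.Normal.comap inferInstance ψ
  have hgD : g' ∈ (pCore p (↥N ⧸ Subgroup.centralizer (P' : Set ↥N))).comap ψ := by
    show ψ g' ∈ pCore p (↥N ⧸ Subgroup.centralizer (P' : Set ↥N))
    have h4 : ψ b = 1 := (QuotientGroup.eq_one_iff b).2 hbC
    rw [hab, map_mul, h4, mul_one]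
    exact h1
  refine ⟨((pCore p (↥N ⧸ Subgroup.centralizer (P' : Set ↥N))).comap ψ).map N.subtype,
    Subgroup.map_subtype_le _, ?_, ⟨g', hgD, rfl⟩, ?_⟩
  · rintro n hn _ ⟨r, hr, rfl⟩
    exact ⟨⟨n, hn⟩ * r * ⟨n, hn⟩⁻¹, hDn.conj_mem r hr ⟨n, hn⟩, by simp⟩
  · rintro _ ⟨r, hr, rfl⟩
    obtain ⟨j, hj⟩ := (pCore_isPGroup (p := p) (G := ↥N ⧸ Subgroup.centralizer (P' : Set ↥N))) ⟨ψ r, hr⟩
    refine ⟨j, ?_⟩
    have h5 : ψ (r ^ p ^ j) = 1 := by
      rw [map_pow]
      exact congrArg Subtype.val hj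
    have h6 : r ^ p ^ j ∈ Subgroup.centralizer (P' : Set ↥N) := (QuotientGroup.eq_one_iff _).1 h5
    refine Subgroup.mem_centralizer_iff.2 ?_
    intro x hx
    have h7 := Subgroup.mem_centralizer_iff.1 h6 ⟨x, Subgroup.le_normalizer hx⟩ (Subgroup.mem_subgroupOf.2 hx)
    exact congrArg Subtype.val h7

end Stable

section Reduced

variable {G : Type u} [Group G] [Finite G] {P : Sylow p G} {Q₀ : Subgroup G}

/-- Reduced groups have the shape `AC`. -/
theorem Reduced_ac (hr : Reduced p G P Q₀) : AC p (pCore p G) (pCore p G ⊔ Q₀) where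
  hO := inferInstance
  hL := hr.normal
  hOL := le_sup_left
  hOp := pCore_isPGroup
  comm := by
    intro x hx y hy
    rw [sup_comm] at hx hy
    obtain ⟨a, ha, o, ho, rfl⟩ := Subgroup.mem_sup_of_normal_right.1 hx
    obtain ⟨b, hb, o', ho', rfl⟩ := Subgroup.mem_sup_of_normal_right.1 hy
    refine (QuotientGroup.eq_one_iff (N := pCore p G) _).1 ?_
    have h1 := hr.comm a ha b hb
    have h2 : (QuotientGroup.mk o : G ⧸ pCore p G) = 1 := (QuotientGroup.eq_one_iff o).2 ho
    have h3 : (QuotientGroup.mk o' : G ⧸ pCore p G) = 1 := (QuotientGroup.eq_one_iff o').2 ho'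
    have h4 : (QuotientGroup.mk ⁅a * o, b * o'⁆ : G ⧸ pCore p G) =
        ⁅QuotientGroup.mk' (pCore p G) (a * o), QuotientGroup.mk' (pCore p G) (b * o')⁆ :=
      (map_commutatorElement (QuotientGroup.mk' (pCore p G)) _ _)
    rw [h4, map_mul, map_mul]
    show ⁅(QuotientGroup.mk a : G ⧸ pCore p G) * QuotientGroup.mk o, (QuotientGroup.mk b : G ⧸ pCore p G) * QuotientGroup.mk o'⁆ = 1
    rw [h2, h3, mul_one, mul_one, commutatorElement_eq_one_iff_mul_comm, ← QuotientGroup.mk_mul,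
      ← QuotientGroup.mk_mul, h1]
  cop := by
    intro x hx
    rw [sup_comm] at hx
    obtain ⟨a, ha, o, ho, rfl⟩ := Subgroup.mem_sup_of_normal_right.1 hx
    refine ⟨Nat.card Q₀, hr.coprime, ?_⟩
    refine (QuotientGroup.eq_one_iff (N := pCore p G) _).1 ?_
    have h2 : (QuotientGroup.mk o : G ⧸ pCore p G) = 1 := (QuotientGroup.eq_one_iff o).2 ho
    have h3 : a ^ Nat.card Q₀ = 1 := by
      have := pow_card_eq_one' (x := (⟨a, ha⟩ : Q₀))
      exact congrArg Subtype.val this
    rw [QuotientGroup.mk_pow, QuotientGroup.mk_mul, h2, mul_one, ← QuotientGroup.mk_pow, h3,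
      QuotientGroup.mk_one]
  quot := hr.quot

/-- K-infinity is normal in reduced groups. -/
theorem Reduced_kInf_normal (hp : p ≠ 2) (hr : Reduced p G P Q₀) :
    (inducedFunctor kInfLower (P : Subgroup G)).Normal ∧
      (inducedFunctor kInfUpper (P : Subgroup G)).Normal :=
  Cfsg.Agent.Lib.KInf.Main.kInf_normal_of_stable P
    (fun N _ => ((Reduced_ac hr).map (QuotientGroup.mk' N) (QuotientGroup.mk'_surjective N)).stable hp)
    hr.constr

end Reduced

/-- The Glauberman--Thompson type theorem for the lower K-infinity subgroup. -/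
theorem pc_of_normalizer_kInfLower {G : Type u} [Group G] [Finite G] (hp : p ≠ 2) (P : Sylow p G)
    (h : HasNormalPComplement p (Subgroup.normalizer (inducedFunctor kInfLower (P : Subgroup G) : Set G))) :
    HasNormalPComplement p G := by
  refine reduction (thompsonHyp (pFunctor_of_char Cfsg.Agent.Lib.KInf.Transfer.isCharP_kInfLower) lFunctor_normalizer) ?_ _ G P rfl h
  intro G _ _ P Q₀ hyp hr
  have hn := (Reduced_kInf_normal hp hr).1
  change HasNormalPComplement p (Subgroup.normalizer (inducedFunctor kInfLower (P : Subgroup G) : Set G)) at hyp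
  rw [Subgroup.normalizer_eq_top_iff.2 hn] at hyp
  exact hr.not_pc_top hyp

/-- The centralizer of the lower K-infinity subgroup of a finite `p`-group is contained in it. -/
theorem centralizer_kInfLower_le {Q : Type u} [Group Q] [Finite Q] (hQ : IsPGroup p Q) :
    Subgroup.centralizer ((kInfLower Q : Subgroup Q) : Set Q) ≤ kInfLower Q := by
  classical
  have hKn : (kInfLower Q).Normal := by
    constructor
    intro k hk g
    have h1 := Cfsg.Agent.Lib.KInf.Chain.map_kInfLower_equiv (MulAut.conj g)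
    rw [← h1]
    exact ⟨k, hk, rfl⟩
  set K := kInfLower Q with hK
  set C := Subgroup.centralizer ((K : Subgroup Q) : Set Q) with hC
  have hCn : C.Normal := inferInstance
  let Z : Subgroup Q := K ⊓ C
  have hZn : Z.Normal := inferInstance
  let π : Q →* Q ⧸ Z := QuotientGroup.mk' Z
  have hπs : Function.Surjective π := QuotientGroup.mk'_surjective _
  have hπ1 : ∀ t : Q, π t = 1 ↔ t ∈ Z := fun t => QuotientGroup.eq_one_iff t
  intro c hc
  by_contra hcK
  have hne : C.map π ≠ ⊥ := by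
    intro hb
    have h1 : π c ∈ C.map π := ⟨c, hc, rfl⟩
    rw [hb, Subgroup.mem_bot, hπ1] at h1
    exact hcK h1.1
  have hnorm : (C.map π).Normal := hCn.map π hπs
  obtain ⟨z, ⟨x, hx, rfl⟩, hzc, hzo⟩ :=
    Cfsg.Agent.Lib.PGroups.Basic.exists_central_orderOf_eq (hQ.to_quotient Z) (C.map π) hne
  have hz1 : π x ≠ 1 := by
    intro h
    rw [h, orderOf_one] at hzo
    exact (Fact.out : p.Prime).one_lt.ne hzo
  -- the subgroup `B`
  let B : Subgroup Q := (Subgroup.zpowers (π x)).comap π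
  have hBn : B.Normal := by
    refine Subgroup.Normal.comap ?_ π
    constructor
    rintro _ ⟨n, rfl⟩ g
    refine ⟨n, ?_⟩
    have hc' : g * (π x) ^ n = (π x) ^ n * g :=
      (Subgroup.mem_center_iff.1 ((Subgroup.center (Q ⧸ Z)).zpow_mem hzc n) g)
    simp only
    rw [hc']
    group
  have hBdec : ∀ y ∈ B, ∃ (n : ℤ), ∃ t ∈ Z, y = x ^ n * t := by
    rintro y ⟨n, hn⟩
    refine ⟨n, (x ^ n)⁻¹ * y, ?_, by group⟩
    rw [← hπ1, map_mul, map_inv, map_zpow, ← hn]
    simp
  have hBcomm : IsMulCommutative B := by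
    refine ⟨⟨?_⟩⟩
    rintro ⟨a, ha⟩ ⟨b, hb⟩
    obtain ⟨n, t, ht, rfl⟩ := hBdec a ha
    obtain ⟨m, u, hu, rfl⟩ := hBdec b hb
    apply Subtype.ext
    show x ^ n * t * (x ^ m * u) = x ^ m * u * (x ^ n * t)
    have hxt : ∀ w ∈ Z, ∀ j : ℤ, x ^ j * w = w * x ^ j := by
      intro w hw j
      have h1 : x ^ j ∈ C := C.zpow_mem hx j
      exact (Subgroup.mem_centralizer_iff.1 h1 w hw.1).symm
    have htu : t * u = u * t := (Subgroup.mem_centralizer_iff.1 hu.2 t ht.1)
    calc x ^ n * t * (x ^ m * u) = x ^ n * (t * x ^ m) * u := by group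
      _ = x ^ n * (x ^ m * t) * u := by rw [hxt t ht m]
      _ = x ^ (n + m) * (t * u) := by rw [zpow_add]; group
      _ = x ^ (m + n) * (u * t) := by rw [htu, add_comm]
      _ = x ^ m * (x ^ n * u) * t := by rw [zpow_add]; group
      _ = x ^ m * (u * x ^ n) * t := by rw [hxt u hu n]
      _ = _ := by group
  have hBK : B ≤ K :=
    (Cfsg.Agent.Lib.KSeq.Basic.le_kSeqEven (Cfsg.Agent.Lib.KSeq.Basic.abelian_normal_mem_lower hBcomm _)).trans
      (Cfsg.Agent.Lib.KSeq.Basic.le_kInfLower 0)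
  have hxB : x ∈ B := Subgroup.mem_zpowers (π x)
  exact hz1 ((hπ1 x).2 ⟨hBK hxB, hx⟩)

/-- If all `p'`-elements of `N(K)` centralize `K`, where `C_S(K) ≤ K`, then `N(K)` has a normal `p`-complement. -/
theorem pc_normalizer_of_centralizes {G : Type u} [Group G] [Finite G] (S : Sylow p G) (K : Subgroup G)
    (hSN : (S : Subgroup G) ≤ Subgroup.normalizer (K : Set G))
    (hself : ∀ x ∈ (S : Subgroup G), x ∈ Subgroup.centralizer (K : Set G) → x ∈ K)
    (h : ∀ g ∈ Subgroup.normalizer (K : Set G), (orderOf g).Coprime p → g ∈ Subgroup.centralizer (K : Set G)) :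
    HasNormalPComplement p ↥(Subgroup.normalizer (K : Set G)) := by
  classical
  set N := Subgroup.normalizer (K : Set G) with hN
  have hTp : IsPGroup p ((S : Subgroup G).subgroupOf N) := S.isPGroup'.comap_subtype
  have hTi : ¬ p ∣ ((S : Subgroup G).subgroupOf N).index := by
    have h1 := Cfsg.Agent.Lib.ConjFam.WellPlaced.not_dvd_relIndex_of_sylow_le S N hSN
    rwa [inf_eq_left.2 hSN] at h1
  let T : Sylow p ↥N := hTp.toSylow hTi
  let X : Subgroup ↥N := (Subgroup.centralizer (K : Set G)).subgroupOf N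
  have hXn : X.Normal := by
    constructor
    intro x hx n
    rw [Subgroup.mem_subgroupOf] at hx ⊢
    refine Subgroup.mem_centralizer_iff.2 ?_
    intro k hk
    have hk' : (n : G)⁻¹ * k * n ∈ K := by
      have := (Subgroup.mem_normalizer_iff.1 n.2 ((n : G)⁻¹ * k * n)).2 (by simpa [mul_assoc] using hk)
      exact this
    have h2 := Subgroup.mem_centralizer_iff.1 hx _ hk'
    simp only [Subgroup.coe_mul, Subgroup.coe_inv]
    calc k * ((n : G) * x * (n : G)⁻¹) = n * (((n : G)⁻¹ * k * n) * x) * (n : G)⁻¹ := by group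
      _ = n * (x * ((n : G)⁻¹ * k * n)) * (n : G)⁻¹ := by rw [h2]
      _ = _ := by group
  have hc : ∀ t ∈ (T : Subgroup ↥N) ⊓ X, ∀ x ∈ X, x * t = t * x := by
    rintro t ⟨ht1, ht2⟩ x hx
    have h1 : (t : G) ∈ K := hself _ (Subgroup.mem_subgroupOf.1 ht1) (Subgroup.mem_subgroupOf.1 ht2)
    have h2 := Subgroup.mem_centralizer_iff.1 (Subgroup.mem_subgroupOf.1 hx) _ h1
    exact Subtype.ext h2.symm
  have hle := le_of_central_sylow X T hc
  refine hasNormalPComplement_iff_exists.2 ⟨pPrimeCore p ↥N, inferInstance, pPrimeCore_coprime, ?_⟩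
  intro z
  obtain ⟨n, rfl⟩ := QuotientGroup.mk'_surjective _ z
  obtain ⟨a, b, rfl, -, -, -, ⟨k, hk⟩, hb⟩ := exists_pPart_decomp (p := p) n
  have hbX : b ∈ X := by
    rw [Subgroup.mem_subgroupOf]
    refine h _ b.2 ?_
    rwa [Subgroup.orderOf_coe]
  obtain ⟨m, hm, t, ht, hbe⟩ := Subgroup.mem_sup_of_normal_left.1 (hle hbX)
  have hm1 : QuotientGroup.mk' (pPrimeCore p ↥N) m = 1 := (QuotientGroup.eq_one_iff m).2 hm
  have hb1 : QuotientGroup.mk' (pPrimeCore p ↥N) b = 1 := by
    have e1 : QuotientGroup.mk' (pPrimeCore p ↥N) b = QuotientGroup.mk' (pPrimeCore p ↥N) t := by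
      rw [← hbe, map_mul, hm1, one_mul]
    obtain ⟨j, hj⟩ := T.isPGroup' ⟨t, ht.1⟩
    have hj' : t ^ p ^ j = 1 := congrArg Subtype.val hj
    have h3 : (QuotientGroup.mk' (pPrimeCore p ↥N) b) ^ p ^ j = 1 := by
      rw [e1, ← map_pow, hj', map_one]
    have h4 := orderOf_dvd_of_pow_eq_one h3
    have h5 : orderOf (QuotientGroup.mk' (pPrimeCore p ↥N) b) ∣ orderOf b := orderOf_map_dvd _ _
    have h6 := Nat.eq_one_of_dvd_coprimes (hb.pow_right j) h5 h4
    exact orderOf_eq_one_iff.1 h6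
  refine ⟨k, ?_⟩
  rw [map_mul, hb1, mul_one, ← map_pow, hk, map_one]

/-- The second form. -/
theorem pc_of_centralizes_kInfLower {G : Type u} [Group G] [Finite G] (hp : p ≠ 2) (S : Sylow p G)
    (h : ∀ g ∈ Subgroup.normalizer (inducedFunctor kInfLower (S : Subgroup G) : Set G), (orderOf g).Coprime p →
      g ∈ Subgroup.centralizer (inducedFunctor kInfLower (S : Subgroup G) : Set G)) :
    HasNormalPComplement p G := by
  refine pc_of_normalizer_kInfLower hp S (pc_normalizer_of_centralizes S _ ?_ ?_ h)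
  · exact Cfsg.Agent.Lib.ConjFam.WellPlaced.functor_le_normalizer
      (inducedFunctor_isConjugacyFunctor Cfsg.Agent.Lib.KInf.Transfer.isCharP_kInfLower) S.isPGroup'
  · intro x hxS hxC
    have h1 : (⟨x, hxS⟩ : ↥(S : Subgroup G)) ∈ kInfLower ↥(S : Subgroup G) := by
      refine centralizer_kInfLower_le S.isPGroup' (Subgroup.mem_centralizer_iff.2 ?_)
      intro k hk
      apply Subtype.ext
      exact Subgroup.mem_centralizer_iff.1 hxC _ ⟨k, hk, rfl⟩
    exact ⟨_, h1, rfl⟩

end Cfsg.Agent.Lib.StrongSec.Thompson
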